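import Cfsg.Agent.SplitBN.Final
import Cfsg.Agent.RankOneClass.SimpleCase
import Cfsg.Agent.ONanTI.Main
import Cfsg.Agent.S0322

/-!
Simple groups with a strongly split BN-pair of rank one and odd degree, from the classification of
rank-one groups.
-/

set_option autoImplicit false
set_option linter.unusedSectionVars false

open Subgroup MulAction
open scoped Pointwise

namespace Cfsg.Agent.SplitBN

open Cfsg.Agent

universe u

variable {G : Type u} [Group G] [Finite G]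

/-- The statement of S0349, from the rank-one classification. -/
theorem split_bn_cases (hC : RankOneClass.RankOneClassification.{u, u}) (hP : ProfileHyp.{u})
    [IsSimpleGroup G] (P : Cfsg.BNPair G) (hrank : P.rank = 1) (U : Subgroup G) (hUB : U ≤ P.B)
    (hUn : (U.subgroupOf P.B).Normal) (hUnil : Group.IsNilpotent U) (hsplit : U ⊔ (P.B ⊓ P.N) = P.B)
    (hind : Odd P.B.index) (hH : Odd (Nat.card ↥(P.B ⊓ P.N))) :
    (∃ (F : Type) (_ : Field F) (_ : Fintype F), (∃ n : ℕ, Fintype.card F = 2 ^ n) ∧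
        Nonempty (G ≃* Matrix.ProjectiveSpecialLinearGroup (Fin 2) F)) ∨
      Cfsg.IsSuzuki G ∨
      (∃ (F : Type) (_ : Field F) (_ : Fintype F) (n : ℕ), 2 ≤ n ∧ Fintype.card F = (2 ^ n) ^ 2 ∧
        Nonempty (G ≃* Cfsg.PSU 3 F (2 ^ n))) := by
  obtain ⟨⟨hone⟩, ⟨⟨s, hs⟩⟩⟩ := Nat.card_eq_one_iff_unique.1 hrank
  have hsB : s ∉ P.B := fun h => P.conj_ne s hs (by
    ext x
    constructor
    · rintro ⟨b, hb, rfl⟩
      exact mul_mem (mul_mem h hb) h
    · intro hx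
      exact ⟨s⁻¹ * x * s⁻¹, mul_mem (mul_mem (inv_mem h) hx) (inv_mem h), by group⟩)
  have hBtop : P.B ≠ ⊤ := fun h => hsB (h ▸ mem_top s)
  haveI := RankOneClass.coset_faithful hBtop
  have h2 := S0322.result P hrank
  have hUconj : ∀ g ∈ P.B, ∀ x ∈ U, g * x * g⁻¹ ∈ U := fun g hg x hx =>
    hUn.conj_mem ⟨x, hUB hx⟩ hx ⟨g, hg⟩
  obtain ⟨a, ha⟩ : ∃ a : G ⧸ P.B, a = ((1 : G) : G ⧸ P.B) := ⟨_, rfl⟩
  have hstab : stabilizer G a = P.B := ha ▸ RankOneClass.stabilizer_self P.B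
  obtain ⟨b0, hb0def⟩ : ∃ b0, b0 = s • a := ⟨_, rfl⟩
  have hb0 : b0 ≠ a := fun h => hsB (hstab ▸ (mem_stabilizer_iff.2 (hb0def ▸ h)))
  -- `U` is transitive on the other points
  have hTfix : ∀ τ ∈ P.B ⊓ P.N, τ • b0 = b0 := by
    intro τ hτ
    have h1 := P.conj_mem s⁻¹ (inv_mem (P.subset hs)) τ hτ
    rw [inv_inv] at h1
    have h2 : (s⁻¹ * τ * s) • a = a := by rw [← mem_stabilizer_iff, hstab]; exact h1
    rw [mul_smul, mul_smul, inv_smul_eq_iff] at h2
    rw [hb0def]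
    exact h2
  obtain ⟨O, hO⟩ : ∃ O : Set (G ⧸ P.B), O = (fun u => u • b0) '' (U : Set G) := ⟨_, rfl⟩
  have hBO : P.B ≤ stabilizer G O := by
    conv_lhs => rw [← hsplit]
    refine sup_le ?_ ?_
    · intro u hu
      refine Set.eq_of_subset_of_ncard_le ?_ (le_of_eq (by rw [Set.ncard_smul_set])) (Set.toFinite _)
      rw [hO]
      rintro _ ⟨_, ⟨v, hv, rfl⟩, rfl⟩
      exact ⟨u * v, mul_mem hu hv, mul_smul u v b0⟩
    · intro τ hτ
      refine Set.eq_of_subset_of_ncard_le ?_ (le_of_eq (by rw [Set.ncard_smul_set])) (Set.toFinite _)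
      rw [hO]
      rintro _ ⟨_, ⟨v, hv, rfl⟩, rfl⟩
      refine ⟨τ * v * τ⁻¹, hUconj τ hτ.1 v hv, ?_⟩
      show (τ * v * τ⁻¹) • b0 = τ • v • b0
      rw [mul_smul, mul_smul, hTfix τ⁻¹ (inv_mem hτ)]
  have horb : ∀ c : G ⧸ P.B, c ≠ a → ∃ u ∈ U, u • b0 = c := by
    intro c hc
    obtain ⟨g, hga, hgb⟩ := (is_two_pretransitive_iff.1 h2) hb0.symm hc.symm
    have hg : g ∈ stabilizer G O := hBO (hstab ▸ (mem_stabilizer_iff.2 hga))
    have : g • b0 ∈ g • O := Set.smul_mem_smul_set (hO ▸ ⟨1, one_mem _, one_smul _ _⟩)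
    rw [mem_stabilizer_iff.1 hg, hgb, hO] at this
    exact this
  have htwo : ∀ x y z w : G ⧸ P.B, x ≠ y → z ≠ w → ∃ g : G, g • x = z ∧ g • y = w :=
    fun _ _ _ _ h h' => is_two_pretransitive_iff.1 h2 h h'
  -- the family of conjugates
  obtain ⟨K, hK⟩ := ONanTI.exists_family h2 a U fun g hg n hn => hUconj g (hstab.le hg) n hn
  have hKa : K a = U := by
    ext x
    have := hK 1 x
    rw [one_smul, inv_one, one_mul, mul_one] at this
    exact this
  have hsurj : ∀ c : G ⧸ P.B, ∃ g : G, g • a = c := fun c => by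
    induction c using QuotientGroup.induction_on with
    | _ x => exact ⟨x, by rw [ha, MulAction.Quotient.smul_mk, smul_eq_mul, mul_one]⟩
  have hKeq : ∀ g : G, K (g • a) = U.map (MulAut.conj g).toMonoidHom := fun g => by
    ext x
    rw [hK, mem_map_equiv, MulAut.conj_symm_apply]
  have hidx : Odd (U.relIndex P.B) := by
    haveI := hUn
    refine hH.of_dvd_nat ?_
    have htop : U.subgroupOf P.B ⊔ (P.B ⊓ P.N).subgroupOf P.B = ⊤ := by
      rw [← subgroupOf_sup hUB inf_le_left, hsplit, subgroupOf_self]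
    have h1 := relIndex_sup_right ((P.B ⊓ P.N).subgroupOf P.B) (U.subgroupOf P.B)
    rw [sup_comm, htop, relIndex_top_right] at h1
    rw [relIndex, h1, ← Nat.card_congr (subgroupOfEquivOfLe (inf_le_left : P.B ⊓ P.N ≤ P.B)).toEquiv]
    exact relIndex_dvd_card _ _
  have hstabc : ∀ g : G, stabilizer G (g • a) = P.B.map (MulAut.conj g).toMonoidHom := fun g => by
    rw [stabilizer_smul_eq_stabilizer_map_conj, hstab]
  have hS : SBN G (G ⧸ P.B) K := by
    refine ⟨inferInstance, htwo, fun c => ?_, fun g c x hx => ?_, fun c => ?_, fun x y z hy hz => ?_,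
      fun c => ?_, ?_, ?_, inferInstance⟩
    · obtain ⟨g, rfl⟩ := hsurj c
      rw [hKeq, hstabc]
      exact map_mono hUB
    · obtain ⟨g', rfl⟩ := hsurj c
      rw [← mul_smul, hK]
      rw [show (g * g')⁻¹ * (g * x * g⁻¹) * (g * g') = g'⁻¹ * x * g' by group]
      exact (hK g' x).1 hx
    · obtain ⟨g, rfl⟩ := hsurj c
      rw [hKeq]
      exact Group.nilpotent_of_mulEquiv (U.equivMapOfInjective _ (MulAut.conj g).injective)
    · obtain ⟨g, rfl⟩ := hsurj x
      have hne : ∀ {w : G ⧸ P.B}, w ≠ g • a → g⁻¹ • w ≠ a := fun hw h => hw (by rw [← h, smul_inv_smul])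
      obtain ⟨u1, hu1, e1⟩ := horb _ (hne hy)
      obtain ⟨u2, hu2, e2⟩ := horb _ (hne hz)
      refine ⟨g * (u2 * u1⁻¹) * g⁻¹, ?_, ?_⟩
      · rw [hKeq]
        exact mem_map_of_mem _ (mul_mem hu2 (inv_mem hu1))
      · rw [mul_smul, mul_smul, ← e1, mul_smul, inv_smul_smul, e2, smul_inv_smul]
    · obtain ⟨g, rfl⟩ := hsurj c
      rw [hKeq, hstabc, relIndex_map_map_of_injective _ _ (MulAut.conj g).injective]
      exact hidx
    · rw [← Subgroup.index_eq_card]
      exact hind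
    · rw [← Subgroup.index_eq_card]
      have h1 : P.B.index ≠ 1 := fun h => hBtop (index_eq_one.1 h)
      have h0 : P.B.index ≠ 0 := Subgroup.index_ne_zero_of_finite
      omega
  have hfree := fun {x y : G ⧸ P.B} (h : x ≠ y) => hS.pairGrp_eq_bot hP h
  -- the set-up
  obtain ⟨d, -, t, ht, ht1, hta, -, -⟩ := hS.exists_swap hb0.symm
  have htB : t ∉ P.B := fun h => hb0 (by rw [← hta]; exact mem_stabilizer_iff.1 (hstab.ge h))
  have hUtrans : ∀ g₁ g₂ : G, g₁ ∉ P.B → g₂ ∉ P.B → ∃ u ∈ U, g₂⁻¹ * (u * g₁) ∈ P.B := by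
    intro g₁ g₂ h₁ h₂
    have hne : ∀ {g : G}, g ∉ P.B → g • a ≠ a := fun hg h => hg (hstab ▸ mem_stabilizer_iff.2 h)
    obtain ⟨u, hu, e⟩ := hS.trans a _ _ (hne h₁) (hne h₂)
    rw [hKa] at hu
    refine ⟨u, hu, ?_⟩
    rw [← hstab, mem_stabilizer_iff, mul_smul, mul_smul, e, inv_smul_smul]
  have hreg : ∀ u ∈ U, t⁻¹ * u * t ∈ P.B → u = 1 := by
    intro u hu h
    rw [← hstab, mem_stabilizer_iff, mul_smul, mul_smul, inv_smul_eq_iff, hta] at h
    exact mem_bot.1 ((hfree hb0.symm).le ⟨hKa.ge hu, h⟩)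
  have hDodd : Odd (Nat.card ↥(P.B ⊓ P.B.map (MulAut.conj t).toMonoidHom)) := by
    refine (hS.odd_index a).of_dvd_nat ?_
    have hDeq : P.B ⊓ P.B.map (MulAut.conj t).toMonoidHom = stabilizer G a ⊓ stabilizer G b0 := by
      rw [← hta, stabilizer_smul_eq_stabilizer_map_conj, hstab]
    rw [hDeq]
    haveI : ((K a).subgroupOf (stabilizer G a)).Normal := ⟨fun x hx g => hS.conj_stab g.2 hx⟩
    have h1 := relIndex_dvd_index_of_normal ((K a).subgroupOf (stabilizer G a))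
      ((stabilizer G a ⊓ stabilizer G b0).subgroupOf (stabilizer G a))
    rw [relIndex_subgroupOf inf_le_left] at h1
    refine dvd_trans ?_ h1
    rw [← inf_relIndex_right, show K a ⊓ (stabilizer G a ⊓ stabilizer G b0) = ⊥ from
      eq_bot_iff.2 (fun x hx => (hfree hb0.symm).le ⟨hx.1, hx.2.2⟩), relIndex_bot_left]
  have hBe : Even (Nat.card P.B) := hstab ▸ hS.even_card_stab a
  have hR := RankOneClass.coset_setup (H := P.B) (t := t) (Q := U) ht.2.2 htB hUB hUconj hUtrans hreg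
    hBe hDodd
  have hG : ¬ IsCyclic G := fun hc => by
    haveI := hc
    letI : CommGroup G := IsCyclic.commGroup
    obtain ⟨z, hz, hz1⟩ := hS.exists_zc a
    refine hb0 (hS.zc_fix_unique hz hz1 ?_)
    rw [hb0def, ← mul_smul, mul_comm z s, mul_smul, hS.zc_fix hz]
  rcases RankOneClass.simple_cases hC hR hG with ⟨F, iF, iFF, ⟨n, -, hn⟩, e⟩ | h | h
  · exact Or.inl ⟨F, iF, iFF, ⟨n, hn⟩, e⟩
  · exact Or.inr (Or.inl h)
  · exact Or.inr (Or.inr h)

end Cfsg.Agent.SplitBN
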