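import Mathlib
import Cfsg.Agent.Core.Solvable
import Cfsg.Agent.OddLocal.Basic

/-!
Doubly transitive groups of odd degree with a nilpotent normal subgroup `K a` of each point stabiliser
transitive on the other points (the split BN-pairs of rank one): `K a ⊓ G_b = K a ⊓ K b`.
-/

set_option autoImplicit false
set_option linter.unusedSectionVars false

open Subgroup MulAction

namespace Cfsg.Agent.SplitBN

universe u v

variable {G : Type u} {Ω : Type v} [Group G] [MulAction G Ω]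

/-- The set-up: `K` is the equivariant family of the normal nilpotent transitive subgroups. -/
structure SBN (G : Type u) (Ω : Type v) [Group G] [MulAction G Ω] (K : Ω → Subgroup G) : Prop where
  faithful : FaithfulSMul G Ω
  two : ∀ a b c d : Ω, a ≠ b → c ≠ d → ∃ g : G, g • a = c ∧ g • b = d
  le : ∀ c, K c ≤ stabilizer G c
  conj : ∀ (g : G) (c : Ω), ∀ x ∈ K c, g * x * g⁻¹ ∈ K (g • c)
  nilp : ∀ c, Group.IsNilpotent (K c)
  trans : ∀ a b c : Ω, b ≠ a → c ≠ a → ∃ u ∈ K a, u • b = c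
  odd_index : ∀ c, Odd ((K c).relIndex (stabilizer G c))
  odd_points : Odd (Nat.card Ω)
  one_lt : 1 < Nat.card Ω
  simple : IsSimpleGroup G

/-- The `p`-part of a nilpotent subgroup. -/
noncomputable def pPart (p : ℕ) (U : Subgroup G) : Subgroup G :=
  ((Classical.arbitrary (Sylow p U) : Sylow p U) : Subgroup U).map U.subtype

theorem pPart_le (p : ℕ) (U : Subgroup G) : pPart p U ≤ U := map_subtype_le _

theorem mem_pPart [Finite G] {p : ℕ} [Fact p.Prime] {U : Subgroup G} (hU : Group.IsNilpotent U)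
    {x : G} : x ∈ pPart p U ↔ x ∈ U ∧ ∃ k, x ^ p ^ k = 1 := by
  constructor
  · rintro ⟨y, hy, rfl⟩
    refine ⟨y.2, ?_⟩
    obtain ⟨k, hk⟩ := (Classical.arbitrary (Sylow p U)).isPGroup' ⟨y, hy⟩
    exact ⟨k, by
      rw [Subgroup.subtype_apply, ← SubgroupClass.coe_pow]
      exact congrArg Subtype.val (congrArg Subtype.val hk)⟩
  · rintro ⟨hx, k, hk⟩
    have hP : IsPGroup p (zpowers (⟨x, hx⟩ : U)) := by
      rintro ⟨_, i, rfl⟩
      refine ⟨k, Subtype.ext ?_⟩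
      show ((⟨x, hx⟩ : U) ^ i) ^ p ^ k = 1
      rw [← zpow_natCast, zpow_comm, zpow_natCast, show (⟨x, hx⟩ : U) ^ p ^ k = 1 from Subtype.ext hk,
        one_zpow]
    obtain ⟨P, hPle⟩ := hP.exists_le_sylow
    haveI := hU
    haveI : Subsingleton (Sylow p U) := by
      haveI : ((Classical.arbitrary (Sylow p U) : Sylow p U) : Subgroup U).Normal := inferInstance
      have := Sylow.unique_of_normal (Classical.arbitrary (Sylow p U)) inferInstance
      exact Unique.instSubsingleton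
    rw [Subsingleton.elim P (Classical.arbitrary _)] at hPle
    exact ⟨⟨x, hx⟩, hPle (mem_zpowers _), rfl⟩

namespace SBN

variable {K : Ω → Subgroup G} (hS : SBN G Ω K)

include hS

theorem finite_points [Finite G] : Finite Ω := Nat.finite_of_card_ne_zero (by have := hS.one_lt; omega)

theorem fix {c : Ω} {x : G} (hx : x ∈ K c) : x • c = c := hS.le c hx

theorem conj_iff (g : G) (c : Ω) {x : G} : g * x * g⁻¹ ∈ K (g • c) ↔ x ∈ K c := by
  refine ⟨fun h => ?_, hS.conj g c x⟩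
  have := hS.conj g⁻¹ _ _ h
  rw [inv_smul_smul, inv_inv] at this
  simpa [mul_assoc] using this

theorem conj_stab {a : Ω} {g x : G} (hg : g • a = a) (hx : x ∈ K a) : g * x * g⁻¹ ∈ K a := by
  have := hS.conj g a x hx
  rwa [hg] at this

theorem exists_ne (a : Ω) : ∃ b : Ω, b ≠ a := by
  by_contra h
  push Not at h
  haveI : Subsingleton Ω := ⟨fun x y => (h x).trans (h y).symm⟩
  have := hS.one_lt
  rw [Nat.card_of_subsingleton a] at this
  omega

/-- A normal subgroup of `K a` fixing another point is trivial. -/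
theorem eq_bot_of_normal_fix {a b : Ω} (hb : b ≠ a) {M : Subgroup G} (hM : M ≤ K a)
    (hn : ∀ u ∈ K a, ∀ m ∈ M, u * m * u⁻¹ ∈ M) (hfix : ∀ m ∈ M, m • b = b) : M = ⊥ := by
  refine (eq_bot_iff_forall _).2 fun m hm => ?_
  haveI := hS.faithful
  refine FaithfulSMul.eq_of_smul_eq_smul (α := Ω) fun c => ?_
  rw [one_smul]
  rcases eq_or_ne c a with rfl | hc
  · exact hS.fix (hM hm)
  obtain ⟨u, hu, rfl⟩ := hS.trans a b c hb hc
  have := hfix _ (hn u⁻¹ (inv_mem hu) m hm)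
  rwa [inv_inv, mul_smul, mul_smul, inv_smul_eq_iff] at this

/-- A central element of `K a` fixing another point is trivial. -/
theorem eq_one_of_central {a b : Ω} (hb : b ≠ a) {z : G} (hz : z ∈ K a)
    (hc : ∀ u ∈ K a, u * z = z * u) (hfix : z • b = b) : z = 1 := by
  have := hS.eq_bot_of_normal_fix hb (M := zpowers z) (zpowers_le.2 hz)
    (fun u hu m hm => by
      obtain ⟨i, rfl⟩ := mem_zpowers_iff.1 hm
      rw [((show Commute u z from hc u hu).zpow_right i).eq, mul_inv_cancel_right]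
      exact zpow_mem (mem_zpowers z) i)
    (fun m hm => MulAction.mem_stabilizer_iff.1
      ((zpowers_le.2 (show z ∈ stabilizer G b from hfix)) hm))
  exact zpowers_eq_bot.1 this

variable [Finite G]

theorem card_pPart_inf (p : ℕ) [Fact p.Prime] {a b c d : Ω} (hab : a ≠ b) (hcd : c ≠ d) :
    Nat.card ↥(pPart p (K a) ⊓ stabilizer G b) = Nat.card ↥(pPart p (K c) ⊓ stabilizer G d) := by
  obtain ⟨g, rfl, rfl⟩ := hS.two a b c d hab hcd
  have key : ∀ x : G, g * x * g⁻¹ ∈ pPart p (K (g • a)) ⊓ stabilizer G (g • b) ↔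
      x ∈ pPart p (K a) ⊓ stabilizer G b := fun x => by
    simp only [mem_inf, mem_pPart (hS.nilp _), hS.conj_iff, conj_pow, conj_eq_one_iff,
      mem_stabilizer_iff, mul_smul, inv_smul_smul, smul_left_cancel_iff]
  exact Nat.card_congr
    { toFun := fun x => ⟨g * x * g⁻¹, (key x).2 x.2⟩
      invFun := fun y => ⟨g⁻¹ * y * g, (key _).1 (by simpa [mul_assoc] using y.2)⟩
      left_inv := fun x => Subtype.ext (by simp [mul_assoc])
      right_inv := fun x => Subtype.ext (by simp [mul_assoc]) }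

theorem pPart_inf_le (p : ℕ) [Fact p.Prime] {a b : Ω} (hab : a ≠ b) :
    pPart p (K a) ⊓ stabilizer G b ≤ K b := by
  haveI := hS.finite_points
  obtain ⟨X, hX⟩ : ∃ X, X = pPart p (K a) ⊓ stabilizer G b := ⟨_, rfl⟩
  rw [← hX]
  by_cases hX1 : X = ⊥
  · rw [hX1]; exact bot_le
  obtain ⟨g, hga, hgb⟩ := hS.two a b b a hab hab.symm
  -- a central element of the `p`-part fixed by the conjugate of `X`
  haveI := hS.nilp a
  obtain ⟨R, hR⟩ : ∃ R : Subgroup (K a), R = (pPart p (K a)).subgroupOf (K a) := ⟨_, rfl⟩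
  haveI : R.Normal := by
    refine ⟨fun x hx y => ?_⟩
    rw [hR, mem_subgroupOf, mem_pPart (hS.nilp a)] at hx ⊢
    obtain ⟨-, k, hk⟩ := hx
    refine ⟨(y * x * y⁻¹).2, k, ?_⟩
    push_cast
    rw [conj_pow, hk, mul_one, mul_inv_cancel]
  have hRne : R ≠ ⊥ := fun h => hX1 ((eq_bot_iff_forall _).2 fun x hx => by
    rw [hX] at hx
    have h1 : (⟨x, pPart_le p _ hx.1⟩ : K a) ∈ R := by rw [hR, mem_subgroupOf]; exact hx.1
    rw [h, mem_bot] at h1
    exact congrArg Subtype.val h1)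
  obtain ⟨M, hM⟩ : ∃ M, M = (R ⊓ center (K a)).map (K a).subtype := ⟨_, rfl⟩
  have hMmem : ∀ {w : G}, w ∈ M ↔ w ∈ pPart p (K a) ∧ ∀ u ∈ K a, u * w = w * u := by
    intro w
    rw [hM]
    constructor
    · rintro ⟨y, ⟨hy, hyc⟩, rfl⟩
      rw [hR] at hy
      exact ⟨hy, fun u hu => congrArg Subtype.val (mem_center_iff.1 hyc ⟨u, hu⟩)⟩
    · rintro ⟨hw, hwc⟩
      exact ⟨⟨w, pPart_le p _ hw⟩, ⟨by rw [hR]; exact hw,
        mem_center_iff.2 fun u => Subtype.ext (hwc u u.2)⟩, rfl⟩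
  have hMne : M ≠ ⊥ := by
    rw [hM, ne_eq, map_eq_bot_iff_of_injective _ (K a).subtype_injective]
    exact Core.inf_center_ne_bot hRne
  have hMnorm : ∀ h : G, h • a = a → ∀ w ∈ M, h * w * h⁻¹ ∈ M := by
    intro h hh w hw
    obtain ⟨hw, hwc⟩ := hMmem.1 hw
    obtain ⟨hwK, k, hk⟩ := (mem_pPart (hS.nilp a)).1 hw
    refine hMmem.2 ⟨(mem_pPart (hS.nilp a)).2 ⟨hS.conj_stab hh hwK, k, by
      rw [conj_pow, hk, mul_one, mul_inv_cancel]⟩, fun u hu => ?_⟩
    have e := hwc _ (hS.conj_stab (show h⁻¹ • a = a by rw [inv_smul_eq_iff, hh]) hu)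
    rw [inv_inv] at e
    calc u * (h * w * h⁻¹) = h * ((h⁻¹ * u * h) * w) * h⁻¹ := by group
      _ = h * w * h⁻¹ * u := by rw [e]; group
  have hXfix : ∀ x ∈ X, (g * x * g⁻¹) • a = a := fun x hx => by
    rw [hX] at hx
    have e : g⁻¹ • a = b := by rw [inv_smul_eq_iff, hgb]
    rw [mul_smul, mul_smul, e, show x • b = b from hx.2, hgb]
  letI : MulAction X M :=
    { smul := fun x w => ⟨(g * x * g⁻¹) * w * (g * x * g⁻¹)⁻¹, hMnorm _ (hXfix x x.2) w w.2⟩
      one_smul := fun w => Subtype.ext (show (g * 1 * g⁻¹) * (w : G) * (g * 1 * g⁻¹)⁻¹ = w by group)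
      mul_smul := fun x y w => Subtype.ext (show (g * (x * y : G) * g⁻¹) * (w : G) * (g * (x * y : G) * g⁻¹)⁻¹
        = (g * x * g⁻¹) * ((g * y * g⁻¹) * w * (g * y * g⁻¹)⁻¹) * (g * x * g⁻¹)⁻¹ by group) }
  have hXp : IsPGroup p X := fun x => by
    obtain ⟨-, k, hk⟩ := (mem_pPart (hS.nilp a)).1 (show (x : G) ∈ pPart p (K a) from (hX.le x.2).1)
    exact ⟨k, Subtype.ext (by rw [SubgroupClass.coe_pow, hk]; rfl)⟩
  have hMp : IsPGroup p M := fun w => by
    obtain ⟨-, k, hk⟩ := (mem_pPart (hS.nilp a)).1 (hMmem.1 w.2).1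
    exact ⟨k, Subtype.ext (by rw [SubgroupClass.coe_pow, hk]; rfl)⟩
  obtain ⟨w, hw, hw1⟩ := hXp.exists_fixed_point_of_prime_dvd_card_of_fixed_point M (a := (1 : M))
    (by
      obtain ⟨k, hk⟩ := IsPGroup.iff_card.1 hMp
      refine hk ▸ dvd_pow_self p fun h0 => hMne (Subgroup.card_eq_one.1 ?_)
      rw [hk, h0, pow_zero])
    (fun x => Subtype.ext (show (g * x * g⁻¹) * 1 * (g * x * g⁻¹)⁻¹ = 1 by group))
  obtain ⟨hwR, hwc⟩ := hMmem.1 w.2
  have hwa : g⁻¹ • a = b := by rw [inv_smul_eq_iff, hgb]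
  obtain ⟨w', hw'⟩ : ∃ w', w' = g⁻¹ * (w : G) * g := ⟨_, rfl⟩
  have hw'K : w' ∈ K b := by
    have := hS.conj g⁻¹ a w (pPart_le p _ hwR)
    rwa [hwa, inv_inv, ← hw'] at this
  have hcomm : ∀ x ∈ X, w' * x * w'⁻¹ = x := by
    intro x hx
    have e : (g * x * g⁻¹) * (w : G) * (g * x * g⁻¹)⁻¹ = w := congrArg Subtype.val (hw ⟨x, hx⟩)
    rw [mul_inv_eq_iff_eq_mul] at e
    rw [mul_inv_eq_iff_eq_mul, hw']
    calc g⁻¹ * (w : G) * g * x = g⁻¹ * ((w : G) * (g * x * g⁻¹)) * g := by group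
      _ = x * (g⁻¹ * (w : G) * g) := by rw [← e]; group
  have hca : w' • a ≠ a := by
    intro e
    refine hw1 (Subtype.ext ?_)
    have h1 : w' = 1 := by
      refine hS.eq_one_of_central hab hw'K (fun u hu => ?_) e
      have h2 : g * u * g⁻¹ ∈ K a := by
        have := hS.conj g b u hu
        rwa [hgb] at this
      have e2 := hwc _ h2
      rw [hw']
      calc u * (g⁻¹ * (w : G) * g) = g⁻¹ * ((g * u * g⁻¹) * w) * g := by group
        _ = g⁻¹ * (w : G) * g * u := by rw [e2]; group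
    rw [hw'] at h1
    calc ((1 : M) : G) = g * (g⁻¹ * (w : G) * g) * g⁻¹ := by rw [h1]; simp
      _ = w := by group
  obtain ⟨c, hc⟩ : ∃ c, c = w' • a := ⟨_, rfl⟩
  rw [← hc] at hca
  have hXc : X ≤ pPart p (K a) ⊓ stabilizer G c := fun x hx => by
    refine ⟨(hX.le hx).1, ?_⟩
    show x • c = c
    nth_rw 1 [hc]
    rw [← mul_smul, ← mul_inv_eq_iff_eq_mul.1 (hcomm x hx), mul_smul,
      hS.fix (pPart_le p _ (hX.le hx).1), ← hc]
  have hXK : X ≤ K c := fun x hx => by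
    have := hS.conj w' a x (pPart_le p _ (hX.le hx).1)
    rwa [← hc, hcomm x hx] at this
  have heq : X = pPart p (K a) ⊓ stabilizer G c :=
    Subgroup.eq_of_le_of_card_ge hXc (by rw [hX]; exact (hS.card_pPart_inf p hca.symm hab).le)
  obtain ⟨h, hha, hhc⟩ := hS.two a c a b hca.symm hab
  intro x hx
  rw [hX] at hx
  obtain ⟨⟨hxK, k, hk⟩, hxb⟩ : (x ∈ K a ∧ ∃ k, x ^ p ^ k = 1) ∧ x • b = b :=
    ⟨(mem_pPart (hS.nilp a)).1 hx.1, hx.2⟩
  have hy : h⁻¹ * x * h ∈ X := by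
    rw [heq]
    refine ⟨(mem_pPart (hS.nilp a)).2 ⟨?_, k, ?_⟩, ?_⟩
    · have := hS.conj h⁻¹ a x hxK
      rwa [show h⁻¹ • a = a by rw [inv_smul_eq_iff, hha], inv_inv] at this
    · have := conj_pow (i := p ^ k) (a := h⁻¹) (b := x)
      rw [inv_inv] at this
      rw [this, hk, mul_one, inv_mul_cancel]
    · show (h⁻¹ * x * h) • c = c
      rw [mul_smul, mul_smul, hhc, hxb, inv_smul_eq_iff, hhc]
  have := hS.conj h c _ (hXK hy)
  rwa [hhc, show h * (h⁻¹ * x * h) * h⁻¹ = x by group] at this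

/-- **`K a ⊓ G_b ≤ K b`.** -/
theorem inf_stab_le {a b : Ω} (hab : a ≠ b) : K a ⊓ stabilizer G b ≤ K b := by
  haveI := hS.finite_points
  suffices h : K a ⊓ stabilizer G b ≤ K a ⊓ stabilizer G b ⊓ K b from h.trans inf_le_right
  refine (Subgroup.eq_of_le_of_card_ge inf_le_left (Nat.le_of_dvd Nat.card_pos ?_)).ge
  refine (Nat.dvd_iff_prime_pow_dvd_dvd _ _).2 fun p k hp hk => ?_
  haveI : Fact p.Prime := ⟨hp⟩
  obtain ⟨P, hP⟩ := Sylow.exists_subgroup_card_pow_prime p hk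
  rw [← hP, ← card_map_of_injective (f := (K a ⊓ stabilizer G b).subtype)
    (Subgroup.subtype_injective _)]
  refine card_dvd_of_le fun x hx => ?_
  obtain ⟨y, hy, rfl⟩ := hx
  refine ⟨y.2, hS.pPart_inf_le p hab ⟨(mem_pPart (hS.nilp a)).2 ⟨y.2.1, ?_⟩, y.2.2⟩⟩
  obtain ⟨i, hi⟩ := IsPGroup.of_card hP ⟨y, hy⟩
  exact ⟨i, by
    rw [Subgroup.subtype_apply, ← SubgroupClass.coe_pow]
    exact congrArg Subtype.val (congrArg Subtype.val hi)⟩

theorem inf_stab_comm {a b : Ω} (hab : a ≠ b) :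
    K a ⊓ stabilizer G b = K b ⊓ stabilizer G a :=
  le_antisymm (le_inf (hS.inf_stab_le hab) fun _ hx => hS.le a hx.1)
    (le_inf (hS.inf_stab_le hab.symm) fun _ hx => hS.le b hx.1)

end SBN

end Cfsg.Agent.SplitBN
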