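import Cfsg.Agent.SplitBN.Induced

/-!
The fixed points of an involution of `K a ⊓ G_b` whose commutators with `K a` avoid the stabilisers of
the other points: they form the line, which has `q + 1` points, and there are `q ^ 3 + 1` points.
-/

set_option autoImplicit false
set_option linter.unusedSectionVars false

open Subgroup MulAction
open scoped Pointwise

namespace Cfsg.Agent.SplitBN

universe u v

theorem two_pow_eq {q g h f N : ℕ} (hq : q = 2 ^ f) (hf : 2 ≤ f)
    (e : 2 ^ N = 2 ^ g + (2 ^ g + 1) * ((q - 1) * 2 ^ h)) : g = f ∧ h = f ∧ N = 3 * f := by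
  have key : ∀ x w : ℕ, 2 ^ N = 2 ^ x * w → Odd w → w = 1 := by
    intro x w h1 h2
    obtain ⟨i, -, rfl⟩ := (Nat.dvd_prime_pow Nat.prime_two).1 (Dvd.intro_left _ h1.symm)
    rcases Nat.eq_zero_or_pos i with rfl | hi
    · rfl
    · exact absurd h2 (Nat.not_odd_iff_even.2 (Nat.even_pow.2 ⟨even_two, hi.ne'⟩))
  have hq4 : 4 ≤ q := by
    rw [hq]
    calc 4 = 2 ^ 2 := rfl
      _ ≤ 2 ^ f := Nat.pow_le_pow_right two_pos hf
  have hqodd : Odd (q - 1) := by
    rw [hq]
    exact Nat.Even.sub_odd (Nat.one_le_two_pow) (Nat.even_pow.2 ⟨even_two, by omega⟩) odd_one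
  have hev : ∀ i : ℕ, 0 < i → Even (2 ^ i) := fun i hi => Nat.even_pow.2 ⟨even_two, hi.ne'⟩
  have hg1 := Nat.one_le_two_pow (n := g)
  rcases lt_trichotomy g h with hlt | rfl | hlt
  · exfalso
    obtain ⟨d, rfl⟩ := Nat.exists_eq_add_of_lt hlt
    have := key g (1 + (2 ^ g + 1) * ((q - 1) * 2 ^ (d + 1))) (by rw [e, Nat.add_assoc g d 1, pow_add]; ring)
      (((hev _ d.succ_pos).mul_left _).mul_left _ |>.one_add)
    have h2 : 0 < (2 ^ g + 1) * ((q - 1) * 2 ^ (d + 1)) :=
      Nat.mul_pos (by omega) (Nat.mul_pos (by omega) (pow_pos two_pos _))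
    omega
  · rcases lt_trichotomy g f with hlt | rfl | hlt
    · exfalso
      obtain ⟨d, hd⟩ := Nat.exists_eq_add_of_lt hlt
      have hq' : 2 ^ g * 2 ^ (d + 1) = (q - 1) + 1 := by
        rw [← pow_add, show g + (d + 1) = f by omega, ← hq]; omega
      have := key (g + g) (2 ^ (d + 1) + (q - 1)) (by
        rw [e, pow_add]
        calc 2 ^ g + (2 ^ g + 1) * ((q - 1) * 2 ^ g) = 2 ^ g * ((q - 1) + 1) + 2 ^ g * 2 ^ g * (q - 1) := by ring
          _ = _ := by rw [← hq']; ring) ((hev _ d.succ_pos).add_odd hqodd)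
      have := Nat.one_le_two_pow (n := d + 1)
      omega
    · refine ⟨rfl, rfl, ?_⟩
      obtain ⟨r, rfl⟩ := Nat.exists_eq_add_of_le (show 1 ≤ q by omega)
      have : 2 ^ N = 2 ^ (3 * g) := by
        rw [e, mul_comm 3 g, pow_mul, ← hq, Nat.add_sub_cancel_left]; ring
      exact Nat.pow_right_injective le_rfl this
    · exfalso
      obtain ⟨d, rfl⟩ := Nat.exists_eq_add_of_lt hlt
      obtain ⟨r, hr⟩ := Nat.exists_eq_add_of_le (show 1 ≤ q by omega)
      have := key (f + d + 1 + f) (1 + 2 ^ (d + 1) * (q - 1)) (by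
        rw [e, Nat.add_assoc f d 1]; simp only [pow_add]; rw [← hq, hr, Nat.add_sub_cancel_left]; ring)
        ((hev _ d.succ_pos).mul_right _ |>.one_add)
      have h2 : 0 < 2 ^ (d + 1) * (q - 1) := Nat.mul_pos (pow_pos two_pos _) (by omega)
      omega
  · exfalso
    obtain ⟨d, rfl⟩ := Nat.exists_eq_add_of_lt hlt
    have := key h (2 ^ (d + 1) + (2 ^ (h + d + 1) + 1) * (q - 1))
      (by rw [e, Nat.add_assoc h d 1, pow_add]; ring)
      ((hev _ d.succ_pos).add_odd (((hev (h + d + 1) (Nat.succ_pos _)).add_one).mul hqodd))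
    have h2 : 0 < (2 ^ (h + d + 1) + 1) * (q - 1) := Nat.mul_pos (by omega) (by omega)
    have := Nat.one_le_two_pow (n := d + 1)
    omega

variable {G : Type u} {Ω : Type v} [Group G] [MulAction G Ω]

/-- Commutators of `e` with `K a` that move it meet no stabiliser of another point. -/
def Rigid (K : Ω → Subgroup G) (a : Ω) (e : G) : Prop :=
  ∀ c : Ω, c ≠ a → ∀ π ∈ K a, π * e * π⁻¹ * e⁻¹ ∈ pairGrp K a c → π * e * π⁻¹ = e

namespace SBN

variable {K : Ω → Subgroup G} (hS : SBN G Ω K)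

include hS

theorem Rigid.mul_zc {a : Ω} {e z : G} (he : Rigid K a e) (hz : z ∈ zc K a) : Rigid K a (e * z) := by
  intro c hc π hπ h
  have h1 : π * (e * z) * π⁻¹ = π * e * π⁻¹ * z := by
    calc π * (e * z) * π⁻¹ = π * e * π⁻¹ * ((π * z) * π⁻¹) := by group
      _ = π * e * π⁻¹ * z := by rw [hz.2.1 π hπ, mul_inv_cancel_right]
  rw [h1] at h ⊢
  rw [mul_inv_rev, mul_assoc (π * e * π⁻¹), mul_inv_cancel_left] at h
  rw [he c hc π hπ h]

variable [Finite G]

/-- An involution swapping two points stabilises their line. -/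
theorem swap_line {u v : Ω} (huv : u ≠ v) {g : G} (h1 : g • u = v) (h2 : g • v = u) :
    ∀ c ∈ line K u v, g • c ∈ line K u v := by
  intro c hc
  have h : g • line K u v = line K u v := by
    rw [hS.smul_line, h1, h2, line, ← hS.pairGrp_comm huv, line]
  have h' : g • c ∈ g • line K u v := Set.smul_mem_smul_set hc
  rwa [h] at h'

theorem fixed_orbit {a u w : Ω} {e : G} (he : e ∈ K a) (hr : Rigid K a e) (hu : u ≠ a) (hw : w ≠ a)
    (heu : e • u = u) (hew : e • w = w) : ∃ π ∈ K a, Commute π e ∧ π • u = w := by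
  obtain ⟨π, hπ, rfl⟩ := hS.trans a u w hu hw
  refine ⟨π, hπ, ?_, rfl⟩
  have hwa : π • u ≠ a := hw
  have h1 : π * e * π⁻¹ ∈ pairGrp K a (π • u) := by
    have := (hS.pairGrp_conj_iff π a u).2 (show e ∈ pairGrp K a u from ⟨he, heu⟩)
    rwa [hS.fix hπ] at this
  exact mul_inv_eq_iff_eq_mul.1 (hr _ hwa π hπ (mul_mem h1 (inv_mem (show e ∈ pairGrp K a (π • u) from ⟨he, hew⟩))))

theorem card_fix_eq (hp2 : ∀ c, IsPGroup 2 (K c)) {a u : Ω} {e : G} (he : e ∈ K a) (hr : Rigid K a e)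
    (hu : u ≠ a) (heu : e • u = u) : ∃ g : ℕ, ({w : Ω | e • w = w} \ {a}).ncard = 2 ^ g := by
  haveI := hS.finite_points
  haveI : Fact (Nat.Prime 2) := ⟨Nat.prime_two⟩
  obtain ⟨C, hC⟩ : ∃ C, C = K a ⊓ centralizer ({e} : Set G) := ⟨_, rfl⟩
  have h : ({w | e • w = w} \ {a}) = MulAction.orbit C u := by
    ext w
    constructor
    · rintro ⟨hw, hwa⟩
      obtain ⟨π, hπ, hc, e'⟩ := hS.fixed_orbit he hr hu hwa heu hw
      exact ⟨⟨π, hC ▸ ⟨hπ, mem_centralizer_singleton_iff.2 hc.eq⟩⟩, e'⟩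
    · rintro ⟨⟨π, hπ⟩, rfl⟩
      rw [hC] at hπ
      refine ⟨?_, fun h => hu ?_⟩
      · show e • π • u = π • u
        rw [← mul_smul, ← mem_centralizer_singleton_iff.1 hπ.2, mul_smul, heu]
      · have h' : π • u = a := h
        exact MulAction.injective π (h'.trans (hS.fix hπ.1).symm)
  obtain ⟨g, hg⟩ := (IsPGroup.iff_card.1 ((hp2 a).to_le (hC.le.trans inf_le_left)))
  have := (MulAction.stabilizer C u).index_dvd_card
  rw [MulAction.index_stabilizer, ← h, hg] at this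
  obtain ⟨i, -, hi⟩ := (Nat.dvd_prime_pow Nat.prime_two).1 this
  exact ⟨i, hi⟩

/-- The fixed points of `e` and of its products with the central involutions. -/
theorem count_fix {a b : Ω} (hab : a ≠ b) {q : ℕ} (hq : Nat.card ↥(zc K a) = q) {j : G} (hja : j • a = a)
    (hjX : ∀ x ∈ pairGrp K a b, x * j = j * x)
    (hjtr : ∀ z ∈ zc K a, z ≠ 1 → ∀ z' ∈ zc K a, z' ≠ 1 → ∃ i : ℕ, j ^ i * z * (j ^ i)⁻¹ = z')
    {e : G} (he : e ∈ pairGrp K a b) (he2 : e * e = 1) (hr : Rigid K a e) {z0 : G} (hz0 : z0 ∈ zc K a)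
    (hz01 : z0 ≠ 1) :
    Nat.card Ω = {w : Ω | e • w = w}.ncard +
      {w : Ω | e • w = w}.ncard * ((q - 1) * ({w : Ω | (e * z0) • w = w} \ {a}).ncard) := by
  haveI := hS.finite_points
  classical
  obtain ⟨F, hF⟩ : ∃ F : Set Ω, F = {w | e • w = w} := ⟨_, rfl⟩
  rw [← hF]
  have hmemF : ∀ w, w ∈ F ↔ e • w = w := fun w => by rw [hF]; rfl
  have heK : ∀ c ∈ F, e ∈ K c := fun c hc => by
    rcases eq_or_ne c a with rfl | h
    · exact he.1
    · exact hS.inf_stab_le h.symm ⟨he.1, (hmemF c).1 hc⟩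
  -- transitivity of the centraliser
  have htr : ∀ c ∈ F, ∃ g : G, Commute g e ∧ g • a = c := by
    intro c hc
    rcases eq_or_ne c a with rfl | h
    · exact ⟨1, Commute.one_left _, one_smul _ _⟩
    obtain ⟨π, hπ, hcm, hπb⟩ := hS.fixed_orbit he.1 hr hab.symm h he.2 ((hmemF c).1 hc)
    obtain ⟨d, -, t, ht, -, hta, -, htX⟩ := hS.exists_swap hab
    exact ⟨π * t, hcm.mul_left (show Commute e t from htX e he).symm, by rw [mul_smul, hta, hπb]⟩
  obtain ⟨x, hx⟩ : ∃ x, x = ({w | (e * z0) • w = w} \ {a}).ncard := ⟨_, rfl⟩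
  rw [← hx]
  have hbase : ∀ z ∈ zc K a, z ≠ 1 → ({w | (e * z) • w = w} \ {a}).ncard = x := by
    intro z hz hz1
    obtain ⟨i, hi⟩ := hjtr z0 hz0 hz01 z hz hz1
    have hje : Commute (j ^ i) e := (show Commute e j from hjX e he).symm.pow_left i
    have hja' : j ^ i • a = a :=
      MulAction.mem_stabilizer_iff.1 (pow_mem (show j ∈ stabilizer G a from hja) i)
    have key : ({w | (e * z) • w = w} \ {a}) = (fun w => j ^ i • w) '' ({w | (e * z0) • w = w} \ {a}) := by
      have hez : e * z = j ^ i * (e * z0) * (j ^ i)⁻¹ := by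
        rw [← hi, ← mul_assoc (j ^ i) e, hje.eq]; group
      ext w
      constructor
      · rintro ⟨hw, hwa⟩
        refine ⟨(j ^ i)⁻¹ • w, ⟨?_, fun h => hwa ?_⟩, smul_inv_smul _ _⟩
        · show (e * z0) • (j ^ i)⁻¹ • w = (j ^ i)⁻¹ • w
          have hw' : (e * z) • w = w := hw
          rw [hez, mul_smul, mul_smul, smul_eq_iff_eq_inv_smul] at hw'
          exact hw'
        · show w = a
          have h' : (j ^ i)⁻¹ • w = a := h
          rw [inv_smul_eq_iff, hja'] at h'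
          exact h'
      · rintro ⟨w', ⟨hw', hwa⟩, rfl⟩
        refine ⟨?_, fun h => hwa ?_⟩
        · show (e * z) • j ^ i • w' = j ^ i • w'
          rw [hez, mul_smul, mul_smul, inv_smul_smul, show (e * z0) • w' = w' from hw']
        · have h' : j ^ i • w' = a := h
          exact MulAction.injective (j ^ i) (h'.trans hja'.symm)
    rw [key, Set.ncard_image_of_injective _ (MulAction.injective _), ← hx]
  have hgen : ∀ c ∈ F, ∀ z ∈ zc K c, z ≠ 1 → ({w | (e * z) • w = w} \ {c}).ncard = x := by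
    intro c hc z hz hz1
    obtain ⟨g, hge, rfl⟩ := htr c hc
    have hz' : g⁻¹ * z * g ∈ zc K a := by
      have := hS.zc_conj g⁻¹ hz
      rwa [inv_smul_smul, inv_inv] at this
    have hez : e * z = g * (e * (g⁻¹ * z * g)) * g⁻¹ := by
      rw [← mul_assoc g e, hge.eq]; group
    have key : ({w | (e * z) • w = w} \ {g • a}) =
        (fun w => g • w) '' ({w | (e * (g⁻¹ * z * g)) • w = w} \ {a}) := by
      ext w
      constructor
      · rintro ⟨hw, hwa⟩
        refine ⟨g⁻¹ • w, ⟨?_, fun h => hwa ?_⟩, smul_inv_smul _ _⟩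
        · show (e * (g⁻¹ * z * g)) • g⁻¹ • w = g⁻¹ • w
          have hw' : (e * z) • w = w := hw
          rw [hez, mul_smul, mul_smul, smul_eq_iff_eq_inv_smul] at hw'
          exact hw'
        · show w = g • a
          have h' : g⁻¹ • w = a := h
          rwa [inv_smul_eq_iff] at h'
      · rintro ⟨w', ⟨hw', hwa⟩, rfl⟩
        refine ⟨?_, fun h => hwa (MulAction.injective g h)⟩
        show (e * z) • g • w' = g • w'
        rw [hez, mul_smul, mul_smul, inv_smul_smul, show (e * (g⁻¹ * z * g)) • w' = w' from hw']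
    rw [key, Set.ncard_image_of_injective _ (MulAction.injective _)]
    exact hbase _ hz' fun h => hz1 (by
      calc z = g * (g⁻¹ * z * g) * g⁻¹ := by group
        _ = 1 := by rw [h, mul_one, mul_inv_cancel])
  -- the other points
  let T := Σ c : F, Σ z : {z : zc K (c : Ω) // (z : G) ≠ 1},
    ↥({w | (e * ((z.1 : G))) • w = w} \ {(c : Ω)})
  have hcomm : ∀ (c : F) (z : zc K (c : Ω)), Commute e (z : G) := fun c z => z.2.2.1 e (heK c c.2)
  have hout : ∀ s : T, (s.2.2 : Ω) ∉ F := by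
    rintro ⟨⟨c, hc⟩, ⟨⟨z, hz⟩, hz1⟩, ⟨w, hw, hwc⟩⟩ hwF
    refine hwc (hS.zc_fix_unique hz hz1 ?_)
    have hw' : (e * z) • w = w := hw
    rw [show e * z = z * e from (hcomm ⟨c, hc⟩ ⟨z, hz⟩).eq, mul_smul, (hmemF w).1 hwF] at hw'
    exact hw'
  have hbij : Function.Bijective (fun s : T => (⟨s.2.2, hout s⟩ : (Fᶜ : Set Ω))) := by
    constructor
    · rintro ⟨⟨c, hc⟩, ⟨⟨z, hz⟩, hz1⟩, ⟨w, hw, hwc⟩⟩ ⟨⟨c', hc'⟩, ⟨⟨z', hz'⟩, hz1'⟩, ⟨w', hw', hwc'⟩⟩ heq
      obtain rfl : w = w' := congrArg Subtype.val heq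
      have hwF := hout ⟨⟨c, hc⟩, ⟨⟨z, hz⟩, hz1⟩, ⟨w, hw, hwc⟩⟩
      have hne : e • w ≠ w := fun h => hwF ((hmemF w).2 h)
      have hzw : ∀ {d : Ω} {y : G}, d ∈ F → y ∈ zc K d → y ≠ 1 → (e * y) • w = w →
          y • w = e • w ∧ d ∈ line K w (e • w) := by
        intro d y hd hy hy1 h
        have h1 : y • w = e • w := by
          conv_rhs => rw [← h, ← mul_smul, ← mul_assoc, he2, one_mul]
        refine ⟨h1, ?_⟩
        obtain ⟨p, hp, hpy⟩ := hS.exists_fixed hy.2.2 (hS.swap_line hne.symm h1 (by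
          rw [← h1, ← mul_smul, hy.2.2, one_smul])) (hS.odd_line hne.symm)
        rwa [← hS.zc_fix_unique hy hy1 hpy]
      obtain ⟨e1, hcL⟩ := hzw hc hz hz1 hw
      obtain ⟨e2, hcL'⟩ := hzw hc' hz' hz1' hw'
      obtain rfl : c = c' := by
        by_contra hne'
        refine hne ?_
        have hX : e ∈ pairGrp K c c' := ⟨heK c hc, (hmemF c').1 hc'⟩
        rw [hS.pairGrp_eq hne.symm hcL hcL' hne'] at hX
        exact hS.le w hX.1
      obtain rfl : z = z' := by
        by_contra hzz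
        refine hwc (hS.zc_fix_unique (z := z⁻¹ * z') (mul_mem (inv_mem hz) hz')
          (fun h => hzz (inv_mul_eq_one.1 h)) ?_)
        rw [mul_smul, e2, ← e1, inv_smul_smul]
      rfl
    · rintro ⟨w, hwF⟩
      have hne : e • w ≠ w := fun h => hwF ((hmemF w).2 h)
      have heew : e • e • w = w := by rw [← mul_smul, he2, one_smul]
      have hL := hS.swap_line hne.symm rfl heew
      obtain ⟨c, hcL, hce⟩ := hS.exists_fixed he2 hL (hS.odd_line hne.symm)
      have hcw : c ≠ w := fun h => hne (by rw [← h]; exact hce)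
      have hl := hS.line_eq hne.symm hcL (left_mem_line hS.le _ _) hcw
      have hL' : ∀ d ∈ line K c w, e • d ∈ line K c w := by rw [hl]; exact hL
      obtain ⟨z, hz, hzeq⟩ := hS.exists_zc_eq hcw (g := e)
        (hS.mem_stab_line hcw (hL' _ (left_mem_line hS.le _ _)) (hL' _ (right_mem_line K _ _))) hce
        (fun d _ => by rw [← mul_smul, he2, one_smul])
      have hzw : z • w = e • w := hzeq w (right_mem_line K c w)
      have hz1 : z ≠ 1 := fun h => hne (by rw [← hzw, h, one_smul])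
      refine ⟨⟨⟨c, (hmemF c).2 hce⟩, ⟨⟨z, hz⟩, hz1⟩, ⟨w, ?_, fun h => hcw (Eq.symm h)⟩⟩, rfl⟩
      show (e * z) • w = w
      rw [mul_smul, hzw, heew]
  have hcount : Nat.card T = Nat.card F * ((q - 1) * x) := by
    have hinner : ∀ c : F, Nat.card (Σ z : {z : zc K (c : Ω) // (z : G) ≠ 1},
        ↥({w | (e * ((z.1 : G))) • w = w} \ {(c : Ω)})) = (q - 1) * x := by
      intro c
      letI := Fintype.ofFinite {z : zc K (c : Ω) // (z : G) ≠ 1}
      rw [Nat.card_sigma, Finset.sum_congr rfl fun z _ =>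
        (Nat.card_coe_set_eq _).trans (hgen c c.2 z.1 z.1.2 z.2), Finset.sum_const, smul_eq_mul,
        Finset.card_univ, ← Nat.card_eq_fintype_card]
      congr 1
      rw [← hq, hS.card_zc a c]
      letI := Fintype.ofFinite (zc K (c : Ω))
      rw [Nat.card_eq_fintype_card, Nat.card_eq_fintype_card]
      have h1 := Fintype.card_subtype_compl (fun z : zc K (c : Ω) => (z : G) = 1)
      rw [show Fintype.card {z : zc K (c : Ω) // (z : G) = 1} = 1 from
        Fintype.card_eq_one_iff.2 ⟨⟨1, rfl⟩, fun z => Subtype.ext (Subtype.ext z.2)⟩] at h1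
      convert h1 using 2
    letI := Fintype.ofFinite F
    rw [Nat.card_sigma, Finset.sum_congr rfl fun c _ => hinner c, Finset.sum_const, smul_eq_mul,
      Finset.card_univ, ← Nat.card_eq_fintype_card]
  rw [Nat.card_congr (Equiv.ofBijective _ hbij), Nat.card_coe_set_eq, Nat.card_coe_set_eq] at hcount
  have := Set.ncard_add_ncard_compl F
  omega

/-- **Sizes.** -/
theorem line_size (hp2 : ∀ c, IsPGroup 2 (K c)) {a b : Ω} (hab : a ≠ b) {f : ℕ} (hf : 2 ≤ f)
    (hq : Nat.card ↥(zc K a) = 2 ^ f) {j : G} (hja : j • a = a)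
    (hjX : ∀ x ∈ pairGrp K a b, x * j = j * x)
    (hjtr : ∀ z ∈ zc K a, z ≠ 1 → ∀ z' ∈ zc K a, z' ≠ 1 → ∃ i : ℕ, j ^ i * z * (j ^ i)⁻¹ = z')
    {e : G} (he : e ∈ pairGrp K a b) (he1 : e ≠ 1) (he2 : e * e = 1) (hr : Rigid K a e) :
    Nat.card ↥(K a) = (2 ^ f) ^ 3 * Nat.card ↥(pairGrp K a b) ∧
      (∀ w ∈ K a, w • b ∈ line K a b → ∃ z ∈ zc K a, ∃ x ∈ pairGrp K a b, w = z * x) ∧
      ∀ w ∈ K a, Commute w e → w • b ∈ line K a b := by
  haveI := hS.finite_points
  haveI : Fact (Nat.Prime 2) := ⟨Nat.prime_two⟩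
  obtain ⟨z0, hz0, hz01⟩ := hS.exists_zc a
  have hcnt := hS.count_fix hab hq hja hjX hjtr he he2 hr hz0 hz01
  obtain ⟨F, hF⟩ : ∃ F : Set Ω, F = {w | e • w = w} := ⟨_, rfl⟩
  rw [← hF] at hcnt
  have haF : a ∈ F := by rw [hF]; exact hS.fix he.1
  have hFm : F.ncard = (F \ {a}).ncard + 1 := (Set.ncard_sdiff_singleton_add_one haF (Set.toFinite _)).symm
  obtain ⟨g, hg⟩ := hS.card_fix_eq hp2 he.1 hr hab.symm he.2
  rw [← hF] at hg
  have horb : MulAction.orbit (K a) b = {a}ᶜ := by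
    ext w
    constructor
    · rintro ⟨π, rfl⟩ (h : (π : G) • b = a)
      exact hab (MulAction.injective (π : G) (h.trans (hS.fix π.2).symm)).symm
    · intro hw
      obtain ⟨π, hπ, e'⟩ := hS.trans a b w hab.symm hw
      exact ⟨⟨π, hπ⟩, e'⟩
  have hidx := (MulAction.stabilizer (K a) b).card_mul_index
  rw [MulAction.index_stabilizer, horb] at hidx
  have hstab : Nat.card (MulAction.stabilizer (K a) b) = Nat.card ↥(pairGrp K a b) :=
    Nat.card_congr
      { toFun := fun x => ⟨x.1.1, x.1.2, x.2⟩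
        invFun := fun x => ⟨⟨x.1, x.2.1⟩, x.2.2⟩
        left_inv := fun _ => rfl
        right_inv := fun _ => rfl }
  obtain ⟨N, hN⟩ : ∃ N, ({a}ᶜ : Set Ω).ncard = 2 ^ N := by
    obtain ⟨n, hn⟩ := IsPGroup.iff_card.1 (hp2 a)
    obtain ⟨i, -, hi⟩ := (Nat.dvd_prime_pow Nat.prime_two).1 (Dvd.intro_left _ (hidx.trans hn))
    exact ⟨i, hi⟩
  have hΩ : Nat.card Ω = 2 ^ N + 1 := by
    have h1 := Set.ncard_add_ncard_compl ({a} : Set Ω)
    rw [Set.ncard_singleton, hN] at h1
    omega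
  -- the products with the central involutions fix further points
  obtain ⟨x, hx⟩ : ∃ x, x = ({w | (e * z0) • w = w} \ {a}).ncard := ⟨_, rfl⟩
  rw [← hx] at hcnt
  obtain ⟨h, hh⟩ : ∃ h, x = 2 ^ h := by
    rcases Set.eq_empty_or_nonempty ({w | (e * z0) • w = w} \ {a}) with h0 | ⟨u, hu, hua⟩
    · exfalso
      rw [h0, Set.ncard_empty] at hx
      rw [hx, mul_zero, mul_zero, add_zero] at hcnt
      have hall : ∀ w : Ω, e • w = w := fun w => by
        have := Set.eq_univ_of_forall (s := (Set.univ : Set Ω)) (fun _ => Set.mem_univ _)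
        have hsub : F = Set.univ := Set.eq_of_subset_of_ncard_le (Set.subset_univ _)
          (by rw [Set.ncard_univ, hcnt])
        have hw : w ∈ F := hsub ▸ Set.mem_univ w
        rw [hF] at hw
        exact hw
      haveI := hS.faithful
      exact he1 (FaithfulSMul.eq_of_smul_eq_smul (α := Ω) fun w => by rw [hall w, one_smul])
    · obtain ⟨i, hi⟩ := hS.card_fix_eq hp2 (e := e * z0) (mul_mem he.1 hz0.1) (Rigid.mul_zc hS hr hz0)
        hua hu
      exact ⟨i, hx.trans hi⟩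
  rw [hFm, hg, hh, hΩ] at hcnt
  obtain ⟨hgf, -, hN3⟩ := two_pow_eq rfl hf (N := N) (g := g) (h := h) (q := 2 ^ f) (by omega)
  subst hgf
  refine ⟨?_, ?_⟩
  · rw [← hidx, hstab, hN, hN3, ← pow_mul, mul_comm, mul_comm 3]
  -- the fixed points are the translates of `b` by the central involutions
  have hsub : (fun z : zc K a => (z : G) • b) '' Set.univ ⊆ F \ {a} := by
    rintro _ ⟨z, -, rfl⟩
    refine ⟨?_, fun h => hab (MulAction.injective (z : G) ((show (z : G) • b = a from h).trans (hS.zc_fix z.2).symm)).symm⟩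
    rw [hF]
    show e • (z : G) • b = (z : G) • b
    rw [← mul_smul, z.2.2.1 e he.1, mul_smul, show e • b = b from he.2]
  have hinj : Function.Injective (fun z : zc K a => (z : G) • b) := fun z z' h => by
    by_contra hne
    exact hab (hS.zc_fix_unique (z := (z' : G)⁻¹ * z) (mul_mem (inv_mem z'.2) z.2)
      (fun h' => hne (Subtype.ext (inv_mul_eq_one.1 h').symm))
      (by rw [mul_smul, show (z : G) • b = (z' : G) • b from h, inv_smul_smul])).symm
  have heq : (fun z : zc K a => (z : G) • b) '' Set.univ = F \ {a} :=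
    Set.eq_of_subset_of_ncard_le hsub (by
      rw [Set.ncard_image_of_injective _ hinj, Set.ncard_univ, hg, hq])
  have hlineF : ∀ w ∈ line K a b, w ∈ F := fun w hw => by rw [hF]; exact hw e he
  have hFline : ∀ w ∈ F, w ∈ line K a b := by
    intro w hw
    rcases eq_or_ne w a with rfl | hwa
    · exact left_mem_line hS.le _ _
    obtain ⟨z, -, rfl⟩ := heq.ge ⟨hw, hwa⟩
    intro x hx
    rw [← mul_smul, z.2.2.1 x hx.1, mul_smul, hx.2]
  refine ⟨fun w hw hwb => ?_, fun w hw hwe => ?_⟩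
  · obtain ⟨z, -, e'⟩ := heq.ge (show w • b ∈ F \ {a} from ⟨hlineF _ hwb, fun h =>
      hab (MulAction.injective w ((show w • b = a from h).trans (hS.fix hw).symm)).symm⟩)
    have h1 : (z : G)⁻¹ * w ∈ K a := (K a).mul_mem ((K a).inv_mem z.2.1) hw
    refine ⟨z, z.2, (z : G)⁻¹ * w, ⟨h1, ?_⟩, by group⟩
    show ((z : G)⁻¹ * w) • b = b
    rw [mul_smul, inv_smul_eq_iff]
    exact e'.symm
  · refine hFline _ ?_
    rw [hF]
    show e • w • b = w • b
    rw [← mul_smul, ← hwe.eq, mul_smul, show e • b = b from he.2]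

end SBN

end Cfsg.Agent.SplitBN
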