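import Cfsg.Agent.SplitBN.Count
import Cfsg.Agent.RankOneClass.BaseCard
import Cfsg.Agent.Fusion.TransferTools

/-!
`K a` is regular on the points other than `a`: otherwise the second centre of `K a` is inverted by an
involution of `K a ⊓ G_b`, and a transfer averaged over `G_a / K a` contradicts simplicity.
-/

set_option autoImplicit false
set_option linter.unusedSectionVars false

open Subgroup MulAction
open scoped Pointwise commutatorElement

namespace Cfsg.Agent.SplitBN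

open Cfsg.Agent

universe u v

variable {G : Type u} {Ω : Type v} [Group G] [MulAction G Ω]

/-- The upper central series of a subgroup. -/
def zser (U : Subgroup G) (i : ℕ) : Subgroup G := (Subgroup.upperCentralSeries U i).map U.subtype

theorem zser_le (U : Subgroup G) (i : ℕ) : zser U i ≤ U := map_subtype_le _

theorem mem_zser_succ {U : Subgroup G} {i : ℕ} {x : G} :
    x ∈ zser U (i + 1) ↔ x ∈ U ∧ ∀ π ∈ U, π * x * π⁻¹ * x⁻¹ ∈ zser U i := by
  constructor
  · rintro ⟨y, hy, rfl⟩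
    refine ⟨y.2, fun π hπ => ?_⟩
    refine ⟨(⁅y, (⟨π, hπ⟩ : U)⁆)⁻¹,
      inv_mem (Subgroup.mem_upperCentralSeries_succ_iff.1 hy ⟨π, hπ⟩), ?_⟩
    simp [commutatorElement_def, mul_assoc]
  · rintro ⟨hx, h⟩
    refine ⟨⟨x, hx⟩, Subgroup.mem_upperCentralSeries_succ_iff.2 fun π => ?_, rfl⟩
    obtain ⟨y, hy, e⟩ := h π π.2
    have : ⁅(⟨x, hx⟩ : U), π⁆ = y⁻¹ := Subtype.ext (by
      rw [Subgroup.coe_inv, show (y : G) = _ from e]
      simp [commutatorElement_def, mul_assoc])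
    rw [this]
    exact inv_mem hy

theorem zser_mono (U : Subgroup G) : Monotone (zser U) := fun _ _ h =>
  map_mono (Subgroup.upperCentralSeries_mono (G := U) h)

theorem zser_zero (U : Subgroup G) : zser U 0 = ⊥ := by
  rw [zser, Subgroup.upperCentralSeries_zero, Subgroup.map_bot]

theorem mem_zser_one {U : Subgroup G} {x : G} :
    x ∈ zser U 1 ↔ x ∈ U ∧ ∀ π ∈ U, π * x = x * π := by
  rw [show (1 : ℕ) = 0 + 1 from rfl, mem_zser_succ, zser_zero]
  simp only [mem_bot, mul_inv_eq_one]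
  simp only [mul_inv_eq_iff_eq_mul]

theorem exists_zser_eq_top {U : Subgroup G} (hU : Group.IsNilpotent U) : ∃ n, U ≤ zser U n := by
  obtain ⟨n, hn⟩ := hU.nilpotent'
  exact ⟨n, fun x hx => ⟨⟨x, hx⟩, hn ▸ mem_top _, rfl⟩⟩

theorem le_zser_of_stable {U : Subgroup G} (hU : Group.IsNilpotent U) {i : ℕ}
    (h : zser U (i + 1) ≤ zser U i) : U ≤ zser U i := by
  obtain ⟨n, hn⟩ := exists_zser_eq_top hU
  refine hn.trans ?_
  clear hn
  induction n with
  | zero => rw [zser_zero]; exact bot_le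
  | succ n ih =>
    intro x hx
    obtain ⟨hxU, hc⟩ := mem_zser_succ.1 hx
    exact h (mem_zser_succ.2 ⟨hxU, fun π hπ => ih (hc π hπ)⟩)

/-- An orbit of an element whose powers fix nothing but multiples of `r` has length divisible by `r`. -/
theorem dvd_card_sub_one [Finite G] {j : G} {M : Subgroup G} (hM : ∀ w ∈ M, j * w * j⁻¹ ∈ M) {r : ℕ}
    (h : ∀ w ∈ M, w ≠ 1 → ∀ i : ℕ, j ^ i * w * (j ^ i)⁻¹ = w → r ∣ i) : r ∣ Nat.card M - 1 := by
  classical
  let σ : M → M := fun w => ⟨j * w * j⁻¹, hM w w.2⟩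
  have hσ : Function.Injective σ := fun x y e =>
    Subtype.ext (mul_left_cancel (mul_right_cancel (congrArg Subtype.val e)))
  let π : Equiv.Perm M := Equiv.ofBijective σ (Finite.injective_iff_bijective.1 hσ)
  have hπ : ∀ (i : ℕ) (w : M), (((π ^ i) w : M) : G) = j ^ i * w * (j ^ i)⁻¹ := by
    intro i
    induction i with
    | zero => intro w; simp
    | succ i ih =>
      intro w
      rw [pow_succ', Equiv.Perm.mul_apply]
      show j * ((π ^ i) w : G) * j⁻¹ = _
      rw [ih w, pow_succ']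
      group
  let P : Type _ := {w : M // (w : G) ≠ 1}
  have hne : ∀ (k : zpowers π) (w : M), (w : G) ≠ 1 → (((k : Equiv.Perm M) w : M) : G) ≠ 1 := by
    intro k w hw e
    obtain ⟨i, hi⟩ : ∃ i : ℕ, π ^ i = k := mem_powers_iff_mem_zpowers.2 k.2
    rw [← hi, hπ, conj_eq_one_iff] at e
    exact hw e
  letI : MulAction (zpowers π) P :=
    { smul := fun k w => ⟨(k : Equiv.Perm M) w.1, hne k w.1 w.2⟩
      one_smul := fun w => rfl
      mul_smul := fun k l w => rfl }
  have horb : ∀ w : P, r ∣ Nat.card (MulAction.orbit (zpowers π) w) := by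
    intro w
    haveI := Fintype.ofFinite (MulAction.orbit (zpowers π) w)
    haveI := Fintype.ofFinite (zpowers π)
    obtain ⟨i, hi⟩ : ∃ i, i = Function.minimalPeriod ((⟨π, mem_zpowers π⟩ : zpowers π) • ·) w := ⟨_, rfl⟩
    have hfix : (π ^ i) w.1 = w.1 := by
      have h1 := Function.iterate_minimalPeriod (f := ((⟨π, mem_zpowers π⟩ : zpowers π) • ·)) (x := w)
      rw [← hi, smul_iterate] at h1
      exact congrArg Subtype.val h1
    have hdvd := h _ w.1.2 w.2 i (by rw [← hπ i w.1, hfix])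
    have hgen : MulAction.orbit (zpowers π) w =
        MulAction.orbit (zpowers (⟨π, mem_zpowers π⟩ : zpowers π)) w := by
      ext x
      constructor
      · rintro ⟨⟨k, hk⟩, rfl⟩
        obtain ⟨n, hn⟩ := mem_zpowers_iff.1 hk
        refine ⟨⟨_, mem_zpowers_iff.2 ⟨n, rfl⟩⟩, ?_⟩
        show ((⟨π, mem_zpowers π⟩ : zpowers π) ^ n) • w = _
        rw [show (⟨π, mem_zpowers π⟩ : zpowers π) ^ n = ⟨k, hk⟩ from Subtype.ext (by push_cast; exact hn)]
      · rintro ⟨⟨k, -⟩, rfl⟩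
        exact ⟨k, rfl⟩
    rw [hgen]
    haveI := Fintype.ofFinite (MulAction.orbit (zpowers (⟨π, mem_zpowers π⟩ : zpowers π)) w)
    rw [Nat.card_eq_fintype_card, ← MulAction.minimalPeriod_eq_card, ← hi]
    exact hdvd
  have hsum := MulAction.selfEquivSigmaOrbits (zpowers π) P
  letI := Fintype.ofFinite (Quotient (MulAction.orbitRel (zpowers π) P))
  have hP : r ∣ Nat.card P := by
    rw [Nat.card_congr hsum, Nat.card_sigma]
    exact Finset.dvd_sum fun o _ => horb _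
  convert hP using 1
  letI := Fintype.ofFinite M
  rw [Nat.card_eq_fintype_card, Nat.card_eq_fintype_card]
  have h1 := Fintype.card_subtype_compl (fun w : M => (w : G) = 1)
  rw [show Fintype.card {w : M // (w : G) = 1} = 1 from
    Fintype.card_eq_one_iff.2 ⟨⟨1, rfl⟩, fun z => Subtype.ext (Subtype.ext z.2)⟩] at h1
  convert h1.symm using 2

namespace SBN

variable {K : Ω → Subgroup G} (hS : SBN G Ω K)

include hS

theorem zser_conj {a : Ω} {g : G} (hg : g • a = a) :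
    ∀ (i : ℕ) {x : G}, x ∈ zser (K a) i → g * x * g⁻¹ ∈ zser (K a) i := by
  intro i
  induction i with
  | zero =>
    intro x hx
    rw [zser_zero, mem_bot] at hx ⊢
    rw [hx, mul_one, mul_inv_cancel]
  | succ i ih =>
    intro x hx
    obtain ⟨hxU, hc⟩ := mem_zser_succ.1 hx
    refine mem_zser_succ.2 ⟨hS.conj_stab hg hxU, fun π hπ => ?_⟩
    have h1 := ih (hc _ (hS.conj_stab (show g⁻¹ • a = a by rw [inv_smul_eq_iff, hg]) hπ))
    rw [inv_inv] at h1
    convert h1 using 1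
    group

variable [Finite G]

/-- A layer of the series meeting one `pairGrp` trivially meets all of them trivially. -/
theorem zser_inf {a b : Ω} (hab : a ≠ b) {i : ℕ} (h : zser (K a) i ⊓ pairGrp K a b = ⊥) {c : Ω}
    (hc : c ≠ a) {x : G} (hx : x ∈ zser (K a) i) (hxc : x ∈ pairGrp K a c) : x = 1 := by
  obtain ⟨u, hu, rfl⟩ := hS.trans a b c hab.symm hc
  have h1 : u⁻¹ * x * u ∈ zser (K a) i ⊓ pairGrp K a b := by
    refine ⟨?_, ?_⟩
    · have := hS.zser_conj (g := u⁻¹) (by rw [inv_smul_eq_iff, hS.fix hu]) i hx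
      rwa [inv_inv] at this
    · have := (hS.pairGrp_conj_iff u⁻¹ a (u • b)).2 hxc
      rwa [inv_inv, inv_smul_smul, show u⁻¹ • a = a by rw [inv_smul_eq_iff, hS.fix hu]] at this
  rw [h, mem_bot] at h1
  calc x = u * (u⁻¹ * x * u) * u⁻¹ := by group
    _ = 1 := by rw [h1, mul_one, mul_inv_cancel]

/-- Two conjugate elements of `K a` are conjugate under the stabiliser of `a`. -/
theorem fusion {a : Ω} {x g : G} (hx : x ∈ K a) (hgx : g * x * g⁻¹ ∈ K a) :
    ∃ c : G, c • a = a ∧ c * x * c⁻¹ = g * x * g⁻¹ := by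
  rcases eq_or_ne (g • a) a with h | h
  · exact ⟨g, h, rfl⟩
  have hne : a ≠ g⁻¹ • a := fun e => h (by
    conv_lhs => rw [e]
    rw [smul_inv_smul])
  have hfix : x • g⁻¹ • a = g⁻¹ • a := by
    have := hS.fix hgx
    rw [mul_smul, mul_smul, smul_eq_iff_eq_inv_smul] at this
    exact this
  obtain ⟨d, -, t, ht, -, hta, -, htX⟩ := hS.exists_swap hne
  refine ⟨g * t, by rw [mul_smul, hta, smul_inv_smul], ?_⟩
  have e := htX x ⟨hx, hfix⟩
  calc g * t * x * (g * t)⁻¹ = g * (t * x) * t⁻¹ * g⁻¹ := by group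
    _ = g * x * g⁻¹ := by rw [← e]; group

/-- An invariant homomorphism from `K a` to an abelian group kills its elements of order two. -/
theorem transfer_eq_one {a : Ω} {A : Type*} [CommGroup A] (Ψ : K a →* A)
    (hinv : ∀ c : G, c • a = a → ∀ (x : K a) (hx : c * (x : G) * c⁻¹ ∈ K a), Ψ ⟨_, hx⟩ = Ψ x)
    (e : K a) (he : e * e = 1) : Ψ e = 1 := by
  haveI := hS.finite_points
  haveI := hS.simple
  have htr : MulAction.IsPretransitive G Ω := ⟨fun x y => by
    obtain ⟨x', hx'⟩ := hS.exists_ne x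
    obtain ⟨y', hy'⟩ := hS.exists_ne y
    obtain ⟨g, hg, -⟩ := hS.two x x' y y' hx'.symm hy'.symm
    exact ⟨g, hg⟩⟩
  have hodd : Odd (K a).index := by
    rw [← relIndex_mul_index (hS.le a), MulAction.index_stabilizer_of_transitive]
    exact (hS.odd_index a).mul hS.odd_points
  have hT : MonoidHom.transfer Ψ (e : G) = Ψ e ^ (K a).index :=
    Fusion.transfer_apply_eq_pow Ψ e fun k g hk => by
      obtain ⟨c, hc, he'⟩ := hS.fusion (x := (e : G) ^ k) (g := g) (pow_mem e.2 k) hk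
      have := hinv c hc (e ^ k) (by rw [SubgroupClass.coe_pow, he']; exact hk)
      rw [← this]
      exact congrArg Ψ (Subtype.ext (by simp [he']))
  have hker : (MonoidHom.transfer Ψ).ker = ⊤ := by
    refine ((inferInstance : (MonoidHom.transfer Ψ).ker.Normal).eq_bot_or_eq_top).resolve_left fun h => ?_
    have hinj := (MonoidHom.ker_eq_bot_iff _).1 h
    have hcomm : ∀ x y : G, x * y = y * x := fun x y => hinj (by rw [map_mul, map_mul, mul_comm])
    obtain ⟨z, hz, hz1⟩ := hS.exists_zc a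
    obtain ⟨b, hb⟩ := hS.exists_ne a
    obtain ⟨g, hg⟩ := htr.exists_smul_eq a b
    refine hb (hS.zc_fix_unique hz hz1 ?_)
    rw [← hg, ← mul_smul, hcomm, mul_smul, hS.zc_fix hz]
  have h1 : Ψ e ^ (K a).index = 1 := by
    rw [← hT]
    exact MonoidHom.mem_ker.1 (hker ▸ mem_top _)
  obtain ⟨k, hk⟩ := hodd
  rwa [hk, pow_succ, pow_mul, pow_two, ← map_mul, he, map_one, one_pow, one_mul] at h1

/-- **`K a` is regular on the points other than `a`.** -/
theorem pairGrp_eq_bot (hP : ProfileHyp.{v}) {a b : Ω} (hab : a ≠ b) : pairGrp K a b = ⊥ := by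
  classical
  haveI := hS.finite_points
  haveI : Fact (Nat.Prime 2) := ⟨Nat.prime_two⟩
  by_contra hX
  have hp2 := fun c => hS.isPGroup_two hP c
  obtain ⟨f, hf, hq, j, hja, hjb, hjX, hjfree, hjtr⟩ := hS.exists_torus hab
  -- the first layer of the series meeting `pairGrp K a b`
  have hex : ∃ n, zser (K a) n ⊓ pairGrp K a b ≠ ⊥ := by
    obtain ⟨n, hn⟩ := exists_zser_eq_top (hS.nilp a)
    refine ⟨n, ?_⟩
    rw [inf_eq_right.2 (show pairGrp K a b ≤ zser (K a) n from inf_le_left.trans hn)]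
    exact hX
  obtain ⟨n, hn, hmin⟩ : ∃ n, zser (K a) n ⊓ pairGrp K a b ≠ ⊥ ∧
      ∀ i < n, zser (K a) i ⊓ pairGrp K a b = ⊥ :=
    ⟨Nat.find hex, Nat.find_spec hex, fun i hi => not_not.1 (Nat.find_min hex hi)⟩
  obtain ⟨m, rfl⟩ : ∃ m, n = m + 1 := Nat.exists_eq_succ_of_ne_zero fun h => hn (by
    rw [h, zser_zero, bot_inf_eq])
  have hM : zser (K a) m ⊓ pairGrp K a b = ⊥ := hmin m (Nat.lt_succ_self m)
  obtain ⟨e, he⟩ := exists_prime_orderOf_dvd_card' 2 (G := ↥(zser (K a) (m + 1) ⊓ pairGrp K a b)) (by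
    obtain ⟨k, hk⟩ := IsPGroup.iff_card.1 ((hp2 a).to_le (show zser (K a) (m + 1) ⊓ pairGrp K a b ≤ K a from
      inf_le_right.trans inf_le_left))
    refine hk ▸ dvd_pow_self 2 fun h0 => hn (Subgroup.card_eq_one.1 ?_)
    rw [hk, h0, pow_zero])
  obtain ⟨heZ, heX⟩ := e.2
  have he1 : (e : G) ≠ 1 := fun h => by
    rw [show e = 1 from Subtype.ext h, orderOf_one] at he
    omega
  have he2 : (e : G) * e = 1 := by
    have h := pow_orderOf_eq_one e
    rw [he, pow_two] at h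
    exact congrArg Subtype.val h
  have hr : Rigid K a e := fun c hc π hπ h => mul_inv_eq_one.1
    (hS.zser_inf hab hM hc ((mem_zser_succ.1 heZ).2 π hπ) h)
  obtain ⟨hK, hline, hcent⟩ := hS.line_size hp2 hab hf hq hja hjX hjtr heX he1 he2 hr
  -- elements of a good layer moving `b` along the line are central involutions
  have hA1 : zc K a ≤ zser (K a) 1 := fun z hz => mem_zser_one.2 ⟨hz.1, hz.2.1⟩
  have hgood : ∀ i, 1 ≤ i → zser (K a) i ⊓ pairGrp K a b = ⊥ →
      ∀ w ∈ zser (K a) i, w • b ∈ line K a b → w ∈ zc K a := by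
    intro i hi h w hw hwb
    obtain ⟨z, hz, x, hx, rfl⟩ := hline w (zser_le _ _ hw) hwb
    have hxi : x ∈ zser (K a) i := by
      have := mul_mem (inv_mem (zser_mono (K a) hi (hA1 hz))) hw
      rwa [inv_mul_cancel_left] at this
    rw [hS.zser_inf hab h hab.symm hxi hx, mul_one]
    exact hz
  have hcome : ∀ i, 1 ≤ i → zser (K a) i ⊓ pairGrp K a b = ⊥ →
      ∀ w ∈ zser (K a) i, Commute w (e : G) → w ∈ zc K a :=
    fun i hi h w hw hc => hgood i hi h w hw (hcent w (zser_le _ _ hw) hc)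
  -- the powers of `j` fix no element of a good layer
  have hj' : ∀ i : ℕ, j ^ i • a = a := fun i =>
    MulAction.mem_stabilizer_iff.1 (pow_mem (show j ∈ stabilizer G a from hja) i)
  have hfpf : ∀ k, k ≤ m → ∀ w ∈ zser (K a) k, ∀ i : ℕ, j ^ i * w * (j ^ i)⁻¹ = w →
      ¬ (2 ^ f - 1) ∣ i → w = 1 := by
    intro k
    induction k with
    | zero => intro _ w hw _ _ _; rwa [zser_zero, mem_bot] at hw
    | succ k ih =>
      intro hk w hw i hwi hi
      have hwj : Commute (j ^ i) w := mul_inv_eq_iff_eq_mul.1 hwi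
      have hwX : ∀ x ∈ pairGrp K a b, x * w = w * x := fun x hx => by
        have hc := (mem_zser_succ.1 hw).2 x hx.1
        have hxj : Commute (j ^ i) x := ((show Commute x j from hjX x hx).symm).pow_left i
        have hcj : Commute (j ^ i) (x * w * x⁻¹ * w⁻¹) :=
          ((hxj.mul_right hwj).mul_right hxj.inv_right).mul_right hwj.inv_right
        exact mul_inv_eq_iff_eq_mul.1 (mul_inv_eq_one.1
          (ih (by omega) _ hc i (by rw [hcj.eq, mul_inv_cancel_right]) hi))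
      have hwb : w • b ∈ line K a b := fun x hx => by rw [← mul_smul, hwX x hx, mul_smul, hx.2]
      have hkg : zser (K a) (k + 1) ⊓ pairGrp K a b = ⊥ := hmin _ (by omega)
      have hwz := hgood (k + 1) (by omega) hkg w hw hwb
      by_contra hw1
      exact hi ((hjfree w hwz hw1 i).1 hwi)
  -- sizes of the good layers
  have hfpow : ∀ k, k ≤ m → ∃ i, Nat.card ↥(zser (K a) k) = (2 ^ f) ^ i := by
    intro k hk
    obtain ⟨N, hN⟩ := IsPGroup.iff_card.1 ((hp2 a).to_le (zser_le (K a) k))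
    have := dvd_card_sub_one (j := j) (M := zser (K a) k) (fun w hw => hS.zser_conj hja k hw)
      (r := 2 ^ f - 1) (fun w hw hw1 i hi => by_contra fun h => hw1 (hfpf k hk w hw i hi h))
    rw [hN] at this
    obtain ⟨i, rfl⟩ := RankOneClass.dvd_of_two_pow_sub_one this
    exact ⟨i, by rw [hN, pow_mul]⟩
  -- the map `π ↦ [π, e]`
  have hC0 : Nat.card ↥(K a ⊓ centralizer ({(e : G)} : Set G)) ≤ 2 ^ f * Nat.card ↥(pairGrp K a b) := by
    rw [← hq, ← Nat.card_prod]
    refine Nat.card_le_card_of_surjective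
      (fun p : {p : zc K a × pairGrp K a b // ((p.1 : G) * p.2) ∈ K a ⊓ centralizer ({(e : G)} : Set G)} =>
        (⟨_, p.2⟩ : ↥(K a ⊓ centralizer ({(e : G)} : Set G)))) ?_ |>.trans ?_
    · rintro ⟨w, hw⟩
      obtain ⟨z, hz, x, hx, rfl⟩ := hline w hw.1 (hcent w hw.1 (mem_centralizer_singleton_iff.1 hw.2))
      exact ⟨⟨(⟨z, hz⟩, ⟨x, hx⟩), hw⟩, rfl⟩
    · exact Nat.card_le_card_of_injective _ Subtype.val_injective
  have himg : ∀ W : Subgroup G, W ≤ K a → ∀ L : Subgroup G,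
      (∀ π ∈ W, π * (e : G) * π⁻¹ * (e : G)⁻¹ ∈ L) →
      Nat.card W ≤ Nat.card ↥(W ⊓ centralizer ({(e : G)} : Set G)) *
        {y | y ∈ L ∧ ∃ π ∈ W, y = π * (e : G) * π⁻¹ * (e : G)⁻¹}.ncard := by
    intro W hW L hL
    obtain ⟨C, hC⟩ : ∃ C : Subgroup W, C = (centralizer ({(e : G)} : Set G)).subgroupOf W := ⟨_, rfl⟩
    have h1 := C.card_mul_index
    have hCc : Nat.card C = Nat.card ↥(W ⊓ centralizer ({(e : G)} : Set G)) := by
      rw [hC, ← inf_subgroupOf_left]
      exact Nat.card_congr (subgroupOfEquivOfLe inf_le_left).toEquiv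
    rw [← h1, hCc]
    refine Nat.mul_le_mul_left _ ?_
    rw [← Nat.card_coe_set_eq, Subgroup.index]
    refine Nat.card_le_card_of_injective (fun x : W ⧸ C => ⟨(x.out : G) * (e : G) * (x.out : G)⁻¹ * (e : G)⁻¹,
      hL _ x.out.2, _, x.out.2, rfl⟩) fun x y h => ?_
    have h' : (x.out : G) * (e : G) * (x.out : G)⁻¹ * (e : G)⁻¹ =
        (y.out : G) * (e : G) * (y.out : G)⁻¹ * (e : G)⁻¹ := congrArg Subtype.val h
    have h'' := mul_right_cancel h'
    refine (QuotientGroup.out_eq' x).symm.trans (Eq.trans ?_ (QuotientGroup.out_eq' y))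
    refine QuotientGroup.eq.2 ?_
    refine hC.ge ?_
    rw [mem_subgroupOf, mem_centralizer_singleton_iff, Subgroup.coe_mul, Subgroup.coe_inv]
    calc (x.out : G)⁻¹ * y.out * e = (x.out : G)⁻¹ * ((y.out : G) * e * (y.out : G)⁻¹) * y.out := by group
      _ = (e : G) * ((x.out : G)⁻¹ * y.out) := by rw [← h'']; group
  have hXpos : 0 < Nat.card ↥(pairGrp K a b) := Nat.card_pos
  have h4 : 4 ≤ 2 ^ f := by
    calc 4 = 2 ^ 2 := rfl
      _ ≤ 2 ^ f := Nat.pow_le_pow_right two_pos hf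
  obtain ⟨S, hSdef⟩ : ∃ S, S = {y | y ∈ zser (K a) m ∧ ∃ π ∈ K a, y = π * (e : G) * π⁻¹ * (e : G)⁻¹} := ⟨_, rfl⟩
  have hYK : (2 ^ f) ^ 2 ≤ S.ncard := by
    have h1 := himg (K a) le_rfl (zser (K a) m) (mem_zser_succ.1 heZ).2
    rw [← hSdef, hK] at h1
    have h2 := h1.trans (Nat.mul_le_mul_right _ hC0)
    rw [show (2 ^ f) ^ 3 * Nat.card ↥(pairGrp K a b) = (2 ^ f * Nat.card ↥(pairGrp K a b)) * (2 ^ f) ^ 2 by ring] at h2
    exact Nat.le_of_mul_le_mul_left h2 (Nat.mul_pos (by omega) hXpos)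
  have hS' : ∀ y ∈ S, y ∈ zser (K a) m := fun y hy => by rw [hSdef] at hy; exact hy.1
  have hSle : S.ncard ≤ Nat.card ↥(zser (K a) m) := by
    rw [← Nat.card_coe_set_eq]
    exact Nat.card_le_card_of_injective (fun y : S => (⟨y, hS' y y.2⟩ : zser (K a) m))
      fun x y h => Subtype.ext (congrArg (fun w : zser (K a) m => (w : G)) h)
  have hm1 : 1 ≤ m := by
    by_contra h
    rw [show m = 0 by omega, zser_zero, Subgroup.card_bot] at hSle
    nlinarith
  have hX1 : zser (K a) 1 ⊓ pairGrp K a b = ⊥ := hmin 1 (by omega)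
  have hZ1 : zser (K a) 1 = zc K a := by
    refine le_antisymm (fun w hw => hgood 1 le_rfl hX1 w hw fun x hx => ?_) hA1
    rw [← mul_smul, (mem_zser_one.1 hw).2 x hx.1, mul_smul, hx.2]
  have hm2 : 2 ≤ m := by
    by_contra h
    rw [show m = 1 by omega, hZ1, hq] at hSle
    nlinarith
  have hX2 : zser (K a) 2 ⊓ pairGrp K a b = ⊥ := hmin 2 (by omega)
  have hbig : ∀ k, k + 1 ≤ m → ∀ i, Nat.card ↥(zser (K a) k) = (2 ^ f) ^ i →
      (2 ^ f) ^ (i + 1) ≤ Nat.card ↥(zser (K a) (k + 1)) := by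
    intro k hk i hi
    obtain ⟨i', hi'⟩ := hfpow (k + 1) hk
    rw [hi']
    refine Nat.pow_le_pow_right (by omega) ?_
    by_contra hlt
    have hle : zser (K a) (k + 1) ≤ zser (K a) k :=
      (Subgroup.eq_of_le_of_card_ge (zser_mono (K a) k.le_succ) (by
        rw [hi, hi']; exact Nat.pow_le_pow_right (by omega) (by omega))).ge
    have := le_zser_of_stable (hS.nilp a) hle
    refine hX ((eq_bot_iff_forall _).2 fun x hx => hS.zser_inf hab (hmin k (by omega)) hab.symm (this hx.1) hx)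
  have hZ2q : (2 ^ f) ^ 2 ≤ Nat.card ↥(zser (K a) 2) := hbig 1 (by omega) 1 (by rw [hZ1, hq, pow_one])
  -- `[Z₂, e] ≤ Z₁`
  have hZ2le : Nat.card ↥(zser (K a) 2) ≤ (2 ^ f) ^ 2 := by
    have h1 := himg (zser (K a) 2) (zser_le _ _) (zc K a) fun π hπ => by
      have := inv_mem ((mem_zser_succ.1 hπ).2 (e : G) heX.1)
      rw [← hZ1]
      convert this using 1
      group
    refine h1.trans ?_
    rw [pow_two, ← hq]
    refine Nat.mul_le_mul (card_le_of_le fun w hw =>
      hcome 2 (by omega) hX2 w hw.1 (mem_centralizer_singleton_iff.1 hw.2)) ?_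
    rw [← Nat.card_coe_set_eq]
    exact Nat.card_le_card_of_injective (fun y => (⟨y.1, y.2.1⟩ : zc K a))
      fun x y h => Subtype.ext (congrArg (fun w : zc K a => (w : G)) h)
  -- every element of `Z₂` is inverted by `e`
  have hinv : ∀ y ∈ zser (K a) 2, (e : G) * y * (e : G)⁻¹ = y⁻¹ := by
    suffices h : ∀ y ∈ zser (K a) 2, ∃ π : G, y = π * (e : G) * π⁻¹ * (e : G)⁻¹ by
      intro y hy
      obtain ⟨π, rfl⟩ := h y hy
      rw [inv_eq_of_mul_eq_one_right he2]
      simp only [mul_inv_rev, inv_inv, inv_eq_of_mul_eq_one_right he2, mul_assoc, he2, mul_one]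
    obtain ⟨T, hT, hTsub⟩ : ∃ T : Set G, (2 ^ f) ^ 2 ≤ T.ncard ∧
        ∀ y ∈ T, y ∈ zser (K a) 2 ∧ ∃ π : G, y = π * (e : G) * π⁻¹ * (e : G)⁻¹ := by
      rcases Nat.lt_or_ge m 3 with h3 | h3
      · obtain rfl : m = 2 := by omega
        exact ⟨S, hYK, fun y hy => by
          rw [hSdef] at hy
          obtain ⟨h1, π, -, h2⟩ := hy
          exact ⟨h1, π, h2⟩⟩
      · have h1 := himg (zser (K a) 3) (zser_le _ _) (zser (K a) 2) fun π hπ => by
          have := inv_mem ((mem_zser_succ.1 hπ).2 (e : G) heX.1)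
          convert this using 1
          group
        refine ⟨{y | y ∈ zser (K a) 2 ∧ ∃ π ∈ zser (K a) 3, y = π * (e : G) * π⁻¹ * (e : G)⁻¹}, ?_,
          fun y hy => ⟨hy.1, hy.2.choose, hy.2.choose_spec.2⟩⟩
        have hZ3 : (2 ^ f) ^ 3 ≤ Nat.card ↥(zser (K a) 3) :=
          hbig 2 (by omega) 2 (le_antisymm hZ2le hZ2q)
        have h2 : Nat.card ↥(zser (K a) 3 ⊓ centralizer ({(e : G)} : Set G)) ≤ 2 ^ f := by
          rw [← hq]
          exact card_le_of_le fun w hw =>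
            hcome 3 (by omega) (hmin 3 (by omega)) w hw.1 (mem_centralizer_singleton_iff.1 hw.2)
        have h5 := (hZ3.trans h1).trans (Nat.mul_le_mul_right _ h2)
        rw [pow_succ' _ 2] at h5
        exact Nat.le_of_mul_le_mul_left h5 (by omega)
    intro y hy
    have heq : T = (zser (K a) 2 : Set G) := Set.eq_of_subset_of_ncard_le (fun y hy => (hTsub y hy).1) (by
      rw [← Nat.card_coe_set_eq]
      exact le_trans hZ2le hT)
    exact (hTsub y (heq.ge hy)).2
  -- a noncentral element of `Z₂`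
  obtain ⟨v, hv, hv1⟩ : ∃ v ∈ zser (K a) 2, v ∉ zc K a := by
    by_contra h
    push Not at h
    have := card_le_of_le (H := zser (K a) 2) (K := zc K a) h
    rw [hq] at this
    nlinarith
  letI : CommGroup (zc K a) :=
    { (inferInstance : Group (zc K a)) with
      mul_comm := fun x y => Subtype.ext (y.2.2.1 x x.2.1) }
  have hcomm1 : ∀ π : K a, (π : G) * v * (π : G)⁻¹ * v⁻¹ ∈ zc K a := fun π => by
    rw [← hZ1]; exact (mem_zser_succ.1 hv).2 π π.2
  obtain ⟨φ, hφ⟩ : ∃ φ : K a →* zc K a, ∀ π : K a, (φ π : G) = (π : G) * v * (π : G)⁻¹ * v⁻¹ := by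
    refine ⟨MonoidHom.mk' (fun π => ⟨_, hcomm1 π⟩) fun x y => Subtype.ext ?_, fun π => rfl⟩
    show ((x * y : K a) : G) * v * ((x * y : K a) : G)⁻¹ * v⁻¹ =
      (x : G) * v * (x : G)⁻¹ * v⁻¹ * ((y : G) * v * (y : G)⁻¹ * v⁻¹)
    have hw : v * (x : G)⁻¹ * v⁻¹ ∈ K a :=
      mul_mem (mul_mem (zser_le _ _ hv) (inv_mem x.2)) (inv_mem (zser_le _ _ hv))
    have hc := (hcomm1 y).2.1 _ hw
    push_cast
    obtain ⟨c, hcdef⟩ : ∃ c, c = (y : G) * v * (y : G)⁻¹ * v⁻¹ := ⟨_, rfl⟩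
    rw [← hcdef] at hc ⊢
    calc (x : G) * y * v * ((x : G) * y)⁻¹ * v⁻¹
        = (x : G) * ((y : G) * v * (y : G)⁻¹ * v⁻¹) * (v * (x : G)⁻¹ * v⁻¹) := by group
      _ = (x : G) * v * (x : G)⁻¹ * v⁻¹ * c := by
        rw [← hcdef, mul_assoc (x : G) c, ← hc]; group
  have hconjK : ∀ (c : G), c • a = a → ∀ π : K a, c * (π : G) * c⁻¹ ∈ K a :=
    fun c hc π => hS.conj_stab hc π.2
  let Q := ↥(stabilizer G a) ⧸ (K a).subgroupOf (stabilizer G a)
  haveI : ((K a).subgroupOf (stabilizer G a)).Normal := ⟨fun x hx g => hS.conj_stab g.2 hx⟩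
  let val : ↥(stabilizer G a) → K a → zc K a := fun c π => φ ⟨_, hconjK c c.2 π⟩
  have hval : ∀ (c c' : ↥(stabilizer G a)) (π : K a),
      (c : Q) = (c' : Q) → val c π = val c' π := by
    intro c c' π h
    obtain ⟨k, hk, rfl⟩ : ∃ k : ↥(stabilizer G a), (k : G) ∈ K a ∧ c' = k * c :=
      ⟨c' * c⁻¹, by
        have h1 := QuotientGroup.eq.1 h
        have h2 := Subgroup.Normal.conj_mem inferInstance _ h1 c
        rw [show c * (c⁻¹ * c') * c⁻¹ = c' * c⁻¹ by group] at h2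
        exact h2, by group⟩
    show φ _ = φ _
    rw [show (⟨(↑(k * c) : G) * (π : G) * (↑(k * c) : G)⁻¹, hconjK _ (k * c).2 π⟩ : K a) =
      ⟨(k : G), hk⟩ * ⟨(c : G) * π * (c : G)⁻¹, hconjK c c.2 π⟩ * ⟨(k : G), hk⟩⁻¹ from
      Subtype.ext (by simp [mul_assoc]), map_mul, map_mul, map_inv, mul_inv_cancel_comm]
  letI := Fintype.ofFinite Q
  obtain ⟨Ψ, hΨ⟩ : ∃ Ψ : K a →* zc K a, ∀ π, Ψ π = ∏ x : Q, val x.out π :=
    ⟨MonoidHom.mk' (fun π => ∏ x : Q, val x.out π) fun x y => by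
      rw [← Finset.prod_mul_distrib]
      refine Finset.prod_congr rfl fun o _ => ?_
      show φ _ = φ _ * φ _
      rw [← map_mul]
      exact congrArg φ (Subtype.ext (by simp [mul_assoc])), fun _ => rfl⟩
  have hΨinv : ∀ c : G, c • a = a → ∀ (x : K a) (hx : c * (x : G) * c⁻¹ ∈ K a), Ψ ⟨_, hx⟩ = Ψ x := by
    intro c hc x hx
    rw [hΨ, hΨ]
    rw [← Equiv.prod_comp (Equiv.mulRight (((⟨c, hc⟩ : ↥(stabilizer G a)) : Q))) (fun o => val o.out x)]
    refine Finset.prod_congr rfl fun o _ => ?_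
    show val o.out ⟨_, hx⟩ = val (o * ((⟨c, hc⟩ : ↥(stabilizer G a)) : Q)).out x
    rw [hval (o * ((⟨c, hc⟩ : ↥(stabilizer G a)) : Q)).out (o.out * ⟨c, hc⟩) x (by
      rw [QuotientGroup.out_eq', QuotientGroup.mk_mul, QuotientGroup.out_eq'])]
    exact congrArg φ (Subtype.ext (by simp [mul_assoc]))
  have hone := hS.transfer_eq_one Ψ hΨinv ⟨e, heX.1⟩ (Subtype.ext he2)
  -- every conjugate of `e` inverts `Z₂`
  have hphi : ∀ c : ↥(stabilizer G a), ((val c ⟨e, heX.1⟩ : zc K a) : G) = v⁻¹ * v⁻¹ := by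
    intro c
    show (φ _ : G) = _
    rw [hφ]
    have hcv : (c : G)⁻¹ * v * c ∈ zser (K a) 2 := by
      have := hS.zser_conj (g := (c : G)⁻¹) (by rw [inv_smul_eq_iff]; exact c.2.symm) 2 hv
      rwa [inv_inv] at this
    have h1 := hinv _ hcv
    calc (c : G) * e * (c : G)⁻¹ * v * ((c : G) * e * (c : G)⁻¹)⁻¹ * v⁻¹
        = (c : G) * ((e : G) * ((c : G)⁻¹ * v * c) * (e : G)⁻¹) * (c : G)⁻¹ * v⁻¹ := by group
      _ = v⁻¹ * v⁻¹ := by rw [h1]; group
  have hconst : ∀ c : ↥(stabilizer G a), val c ⟨e, heX.1⟩ = val 1 ⟨e, heX.1⟩ := fun c =>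
    Subtype.ext ((hphi c).trans (hphi 1).symm)
  rw [hΨ, Finset.prod_congr rfl (fun o _ => hconst (o : Q).out), Finset.prod_const, Finset.card_univ,
    ← Nat.card_eq_fintype_card] at hone
  have hsq : val 1 ⟨e, heX.1⟩ * val 1 ⟨e, heX.1⟩ = 1 := Subtype.ext (val 1 ⟨e, heX.1⟩).2.2.2
  obtain ⟨k, hk⟩ : Odd (Nat.card Q) := hS.odd_index a
  rw [hk, pow_succ, pow_mul, pow_two, hsq, one_pow, one_mul] at hone
  have h2 : v⁻¹ * v⁻¹ = 1 := (hphi 1).symm.trans (congrArg Subtype.val hone)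
  refine hv1 (hcome 2 (by omega) hX2 v hv ?_)
  have hvi : v⁻¹ = v := by
    have := congrArg (fun w => w⁻¹) h2
    simp only [mul_inv_rev, inv_inv, inv_one] at this
    exact inv_eq_of_mul_eq_one_right this
  have h1 := hinv v hv
  rw [hvi, mul_inv_eq_iff_eq_mul] at h1
  exact h1.symm

end SBN

end Cfsg.Agent.SplitBN
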