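import Cfsg.Agent.SplitBN.Lines
import Cfsg.Agent.RankOneClass.Base

/-!
The rank-one group induced on a line: `K a` is a `2`-group, and an element fixing two points acts
regularly on the central involutions and centralises the group of the line.
-/

set_option autoImplicit false
set_option linter.unusedSectionVars false

open Subgroup MulAction
open scoped Pointwise

namespace Cfsg.Agent.SplitBN

open Cfsg.Agent

universe u v

/-- The shapes of the rank-one groups, as a hypothesis. -/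
def ProfileHyp : Prop :=
  ∀ (H : Type v) [Group H] [Finite H] (Ψ : Type v) [MulAction H Ψ] (b : Ψ) (s : H) (R : Subgroup H),
    RankOneClass.Ctx H Ψ b s R → RankOneClass.Profile H b s R

variable {G : Type u} {Ω : Type v} [Group G] [MulAction G Ω]

/-- The line as a set invariant under its stabiliser. -/
def lineAct (K : Ω → Subgroup G) (a b : Ω) : SubMulAction (stabilizer G (line K a b)) Ω where
  carrier := line K a b
  smul_mem' g c hc := by
    show (g : G) • c ∈ line K a b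
    have h : (g : G) • c ∈ (g : G) • line K a b := Set.smul_mem_smul_set hc
    rwa [show (g : G) • line K a b = line K a b from g.2] at h

/-- The permutations induced on the line. -/
noncomputable def lineHom (K : Ω → Subgroup G) (a b : Ω) :
    stabilizer G (line K a b) →* Equiv.Perm (lineAct K a b) :=
  MulAction.toPermHom _ _

/-- The group induced on the line. -/
noncomputable abbrev LineGrp (K : Ω → Subgroup G) (a b : Ω) : Subgroup (Equiv.Perm (lineAct K a b)) :=
  (lineHom K a b).range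

/-- The stabiliser of the line onto the induced group. -/
noncomputable def toLine (K : Ω → Subgroup G) (a b : Ω) :
    stabilizer G (line K a b) →* LineGrp K a b :=
  (lineHom K a b).rangeRestrict

theorem toLine_smul (K : Ω → Subgroup G) (a b : Ω) (g : stabilizer G (line K a b))
    (c : lineAct K a b) : ((toLine K a b g • c : lineAct K a b) : Ω) = (g : G) • (c : Ω) := rfl

theorem toLine_eq_one {K : Ω → Subgroup G} {a b : Ω} {g : stabilizer G (line K a b)} :
    toLine K a b g = 1 ↔ ∀ c ∈ line K a b, (g : G) • c = c := by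
  constructor
  · intro h c hc
    exact congrArg Subtype.val (congrArg (fun x : LineGrp K a b => x • (⟨c, hc⟩ : lineAct K a b)) h)
  · intro h
    exact Subtype.ext (Equiv.ext fun c => Subtype.ext (h c c.2))

theorem toLine_surjective (K : Ω → Subgroup G) (a b : Ω) : Function.Surjective (toLine K a b) :=
  MonoidHom.rangeRestrict_surjective _

/-- The image of `K a`. -/
noncomputable def lineQ (K : Ω → Subgroup G) (a b : Ω) : Subgroup (LineGrp K a b) :=
  ((K a).subgroupOf (stabilizer G (line K a b))).map (toLine K a b)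

namespace SBN

variable {K : Ω → Subgroup G} (hS : SBN G Ω K)

include hS

theorem smul_line (g : G) (a b : Ω) : g • line K a b = line K (g • a) (g • b) := by
  ext c
  rw [Set.mem_smul_set_iff_inv_smul_mem]
  constructor
  · intro h x hx
    have hy : g⁻¹ * x * g ∈ pairGrp K a b :=
      (hS.pairGrp_conj_iff g a b).1 (by rwa [show g * (g⁻¹ * x * g) * g⁻¹ = x by group])
    have := h _ hy
    rwa [mul_smul, mul_smul, smul_inv_smul, inv_smul_eq_iff, smul_inv_smul] at this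
  · intro h x hx
    have := h _ ((hS.pairGrp_conj_iff g a b).2 hx)
    rw [mul_smul, mul_smul, ← eq_inv_smul_iff] at this
    exact this

variable [Finite G]

theorem mem_stab_line {a b : Ω} (hab : a ≠ b) {g : G} (ha : g • a ∈ line K a b)
    (hb : g • b ∈ line K a b) : g ∈ stabilizer G (line K a b) := by
  show g • line K a b = line K a b
  rw [hS.smul_line, hS.line_eq hab ha hb (fun e => hab (MulAction.injective g e))]

theorem pairGrp_normal {a b : Ω} (hab : a ≠ b) {g x : G} (hg : g ∈ stabilizer G (line K a b))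
    (hx : x ∈ pairGrp K a b) : g * x * g⁻¹ ∈ pairGrp K a b := by
  have hmem : ∀ c ∈ line K a b, g • c ∈ line K a b := fun c hc =>
    (show g • line K a b = line K a b from hg) ▸ Set.smul_mem_smul_set hc
  rw [← hS.pairGrp_eq hab (hmem a (left_mem_line hS.le a b)) (hmem b (right_mem_line K a b))
    (fun e => hab (MulAction.injective g e))]
  exact (hS.pairGrp_conj_iff g a b).2 hx

theorem zc_mem_stab_line {a b c : Ω} (hab : a ≠ b) (hc : c ∈ line K a b) {z : G} (hz : z ∈ zc K c) :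
    z ∈ stabilizer G (line K a b) := by
  have hmem : ∀ d ∈ line K a b, z • d ∈ line K a b := fun d hd x hx => by
    rw [← mul_smul, hz.2.1 x (hS.le_K_of_mem_line hab hc hx), mul_smul, hd x hx]
  exact hS.mem_stab_line hab (hmem a (left_mem_line hS.le a b)) (hmem b (right_mem_line K a b))

theorem line_ctx {a b : Ω} (hab : a ≠ b) {t : G} (ht : t ∈ stabilizer G (line K a b)) (ht2 : t * t = 1)
    (hta : t • a = b) :
    RankOneClass.Ctx (LineGrp K a b) (lineAct K a b) ⟨a, left_mem_line hS.le a b⟩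
      (toLine K a b ⟨t, ht⟩) (lineQ K a b) := by
  haveI := hS.finite_points
  have ha := left_mem_line hS.le a b
  have hb := right_mem_line K a b
  have htb : toLine K a b ⟨t, ht⟩ • (⟨a, ha⟩ : lineAct K a b) = ⟨b, hb⟩ := Subtype.ext hta
  obtain ⟨z, w, hz, hw, hz1, hw1, hzw⟩ := hS.exists_zc_pair a
  have hzN := hS.zc_mem_stab_line hab ha hz
  have hwN := hS.zc_mem_stab_line hab ha hw
  have hne : ∀ {x : G} (hxN : x ∈ stabilizer G (line K a b)), x ∈ zc K a →
      toLine K a b ⟨x, hxN⟩ = 1 → x = 1 := fun {x} hxN hx h => by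
    by_contra h1
    exact hab (hS.zc_fix_unique hx h1 (toLine_eq_one.1 h b hb)).symm
  refine ⟨inferInstance, ⟨?_, ?_, ?_, ?_, ?_, ?_, ?_, ?_, ?_, ?_⟩, ?_⟩
  · rw [is_two_pretransitive_iff]
    intro x y x' y' hxy hxy'
    obtain ⟨g, hg1, hg2⟩ := hS.two x y x' y' (fun e => hxy (Subtype.ext e))
      (fun e => hxy' (Subtype.ext e))
    obtain ⟨h, hh1, hh2⟩ := hS.two a b x y hab (fun e => hxy (Subtype.ext e))
    have hhN : h ∈ stabilizer G (line K a b) :=
      hS.mem_stab_line hab (hh1 ▸ x.2) (hh2 ▸ y.2)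
    have hghN : g * h ∈ stabilizer G (line K a b) :=
      hS.mem_stab_line hab (by rw [mul_smul, hh1, hg1]; exact x'.2)
        (by rw [mul_smul, hh2, hg2]; exact y'.2)
    have hgN : g ∈ stabilizer G (line K a b) := by simpa using mul_mem hghN (inv_mem hhN)
    exact ⟨toLine K a b ⟨g, hgN⟩, Subtype.ext hg1, Subtype.ext hg2⟩
  · rw [← map_mul, ← map_one (toLine K a b)]
    exact congrArg _ (Subtype.ext ht2)
  · intro e
    exact hab ((toLine_eq_one.1 e a ha).symm.trans hta)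
  · intro e
    exact hab ((congrArg Subtype.val (mem_stabilizer_iff.1 e)).symm.trans hta)
  · rintro _ ⟨x, hx, rfl⟩
    exact Subtype.ext (hS.fix hx)
  · rintro h hh _ ⟨y, hy, rfl⟩
    obtain ⟨g, rfl⟩ := toLine_surjective K a b h
    exact ⟨g * y * g⁻¹, hS.conj_stab (congrArg Subtype.val (mem_stabilizer_iff.1 hh)) hy, by simp⟩
  · refine (eq_bot_iff_forall _).2 ?_
    rintro _ ⟨⟨x, hx, rfl⟩, hxb⟩
    rw [htb] at hxb
    have hxb' : (x : G) • b = b := congrArg Subtype.val (mem_stabilizer_iff.1 hxb)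
    exact toLine_eq_one.2 fun c hc => hc x ⟨hx, hxb'⟩
  · refine le_antisymm (sup_le (fun _ ⟨x, hx, e⟩ => e ▸ Subtype.ext (hS.fix hx)) inf_le_left) fun h hh => ?_
    obtain ⟨g, rfl⟩ := toLine_surjective K a b h
    have hga : (g : G) • a = a := congrArg Subtype.val (mem_stabilizer_iff.1 hh)
    have hgb : (g : G) • b ∈ line K a b := (lineAct K a b).smul_mem' g hb
    obtain ⟨u, hu, hub⟩ := hS.trans a b ((g : G) • b) hab.symm (fun e => hab (MulAction.injective (g : G) (e.trans hga.symm)).symm)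
    have huN : u ∈ stabilizer G (line K a b) :=
      hS.mem_stab_line hab (by rw [hS.fix hu]; exact ha) (hub ▸ hgb)
    rw [show g = ⟨u, huN⟩ * ((⟨u, huN⟩ : stabilizer G (line K a b))⁻¹ * g) from
      (mul_inv_cancel_left _ _).symm, map_mul]
    refine mul_mem_sup ⟨_, hu, rfl⟩ ⟨Subtype.ext ?_, ?_⟩
    · show (u⁻¹ * (g : G)) • a = a
      rw [mul_smul, hga, inv_smul_eq_iff]; exact (hS.fix hu).symm
    · rw [htb]
      refine Subtype.ext ?_
      show (u⁻¹ * (g : G)) • b = b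
      rw [mul_smul, inv_smul_eq_iff]; exact hub.symm
  · have ho : orderOf (toLine K a b ⟨z, hzN⟩) = 2 := orderOf_eq_prime
      (by rw [← map_pow, ← map_one (toLine K a b)]; exact congrArg _ (Subtype.ext (by
        rw [SubgroupClass.coe_pow, pow_two]; exact hz.2.2)))
      (fun e => hz1 (hne hzN hz e))
    exact even_iff_two_dvd.2 (ho ▸ (lineQ K a b).orderOf_dvd_natCard ⟨⟨z, hzN⟩, hz.1, rfl⟩)
  · rw [htb]
    obtain ⟨D, hD⟩ : ∃ D, D = stabilizer G a ⊓ stabilizer G b := ⟨_, rfl⟩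
    have hDN : D ≤ stabilizer G (line K a b) := fun d hd => by
      rw [hD] at hd
      refine hS.mem_stab_line hab ?_ ?_
      · rw [show d • a = a from hd.1]; exact ha
      · rw [show d • b = b from hd.2]; exact hb
    obtain ⟨ψ, hψ⟩ : ∃ ψ, ψ = (toLine K a b).comp (inclusion hDN) := ⟨_, rfl⟩
    refine Odd.of_dvd_nat (hS.odd_index a) ((card_dvd_of_le (K := ψ.range) ?_).trans ?_)
    · intro h hh
      obtain ⟨g, rfl⟩ := toLine_surjective K a b h
      have h1 : (g : G) ∈ D := by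
        rw [hD]
        exact ⟨congrArg Subtype.val (mem_stabilizer_iff.1 hh.1),
          congrArg Subtype.val (mem_stabilizer_iff.1 hh.2)⟩
      exact ⟨⟨g, h1⟩, by rw [hψ]; rfl⟩
    rw [← Subgroup.index_ker ψ]
    refine (index_dvd_of_le (H := (K a).subgroupOf D) ?_).trans ?_
    · intro x hx
      rw [MonoidHom.mem_ker, hψ]
      exact toLine_eq_one.2 fun c hc => hc x ⟨hx, (hD.le x.2).2⟩
    · haveI : ((K a).subgroupOf (stabilizer G a)).Normal :=
        ⟨fun x hx g => hS.conj_stab g.2 hx⟩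
      have hDa : D ≤ stabilizer G a := hD.le.trans inf_le_left
      have := relIndex_dvd_index_of_normal ((K a).subgroupOf (stabilizer G a)) (D.subgroupOf (stabilizer G a))
      rwa [relIndex_subgroupOf hDa] at this
  · refine ⟨toLine K a b ⟨z, hzN⟩, toLine K a b ⟨w, hwN⟩, fun e => hz1 (hne hzN hz e),
      fun e => hw1 (hne hwN hw e), fun e => hzw ?_, ?_, ?_, ?_⟩
    · have h2 : toLine K a b (⟨z, hzN⟩⁻¹ * ⟨w, hwN⟩) = 1 := by rw [map_mul, map_inv, e, inv_mul_cancel]
      exact inv_mul_eq_one.1 (hne (mul_mem (inv_mem hzN) hwN) (mul_mem (inv_mem hz) hw) h2)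
    · rw [← map_mul, ← map_one (toLine K a b)]; exact congrArg _ (Subtype.ext hz.2.2)
    · rw [← map_mul, ← map_one (toLine K a b)]; exact congrArg _ (Subtype.ext hw.2.2)
    · rw [← map_mul, ← map_mul]; exact congrArg _ (Subtype.ext (hw.2.1 z hz.1))

/-- **`K a` is a `2`-group**, and the size of the lines. -/
theorem isPGroup_two (hP : ProfileHyp.{v}) (a : Ω) : IsPGroup 2 (K a) := by
  haveI := hS.finite_points
  obtain ⟨b, hb⟩ := hS.exists_ne a
  obtain ⟨c, hc, t, ht, -, hta, -, -⟩ := hS.exists_swap hb.symm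
  have hC := hS.line_ctx hb.symm (hS.zc_mem_stab_line hb.symm hc ht) ht.2.2 hta
  obtain ⟨f, -, hf⟩ := hC.exists_qq_pow
  have hQ2 : ∃ n : ℕ, Nat.card (lineQ K a b) = 2 ^ n := by
    rcases hP _ _ _ _ _ hC with ⟨h, -⟩ | ⟨h, -⟩ | ⟨h, -⟩
    · exact ⟨f, h.trans hf⟩
    · exact ⟨f * 2, by rw [h, hf, ← pow_mul]⟩
    · exact ⟨f * 3, by rw [h, hf, ← pow_mul]⟩
  obtain ⟨n, hn⟩ := hQ2
  -- an odd prime part fixes `b`
  haveI := hS.nilp a
  suffices h2 : ∀ p : ℕ, p.Prime → p ∣ Nat.card (K a) → p = 2 by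
    exact IsPGroup.of_card (Nat.eq_prime_pow_of_unique_prime_dvd (Nat.card_pos (α := K a)).ne'
      fun {d} hd hdvd => h2 d hd hdvd)
  intro p hp hdvd
  by_contra h
  haveI : Fact p.Prime := ⟨hp⟩
  obtain ⟨R, hR⟩ : ∃ R, R = pPart p (K a) := ⟨_, rfl⟩
  obtain ⟨Y, hY⟩ : ∃ Y : Subgroup R, Y = (pairGrp K a b).subgroupOf R := ⟨_, rfl⟩
  have hRn : ∀ u ∈ K a, ∀ r ∈ R, u * r * u⁻¹ ∈ R := fun u hu r hr => by
    rw [hR] at hr ⊢
    obtain ⟨hr', k, hk⟩ := (mem_pPart (hS.nilp a)).1 hr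
    exact (mem_pPart (hS.nilp a)).2 ⟨mul_mem (mul_mem hu hr') (inv_mem hu), k, by
      rw [conj_pow, hk, mul_one, mul_inv_cancel]⟩
  have hRne : R ≠ ⊥ := fun hbot => by
    obtain ⟨x, hx⟩ := exists_prime_orderOf_dvd_card' p hdvd
    have h1 : (x : G) ∈ R := by
      rw [hR]
      exact (mem_pPart (hS.nilp a)).2 ⟨x.2, 1, by
        rw [pow_one, ← hx, ← SubgroupClass.coe_pow, pow_orderOf_eq_one]; rfl⟩
    rw [hbot, mem_bot] at h1
    rw [show x = 1 from Subtype.ext h1, orderOf_one] at hx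
    exact hp.one_lt.ne hx
  refine hRne (hS.eq_bot_of_normal_fix hb (hR ▸ pPart_le p _) hRn ?_)
  suffices hYtop : Y = ⊤ by
    intro r hr
    have : (⟨r, hr⟩ : R) ∈ Y := hYtop ▸ mem_top _
    rw [hY, mem_subgroupOf] at this
    exact this.2
  by_contra hYne
  have hRp : IsPGroup p R := fun r => by
    obtain ⟨-, k, hk⟩ := (mem_pPart (hS.nilp a)).1 (hR.le r.2)
    exact ⟨k, Subtype.ext (by rw [SubgroupClass.coe_pow, hk]; rfl)⟩
  haveI := hRp.isNilpotent
  obtain ⟨y, hy, hyY⟩ := SetLike.exists_of_lt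
    (normalizerCondition_of_isNilpotent Y (lt_top_iff_ne_top.2 hYne))
  refine hyY ?_
  -- `y` normalises the group of the line
  have hyK : (y : G) ∈ K a := pPart_le p _ (hR.le y.2)
  have hyb : (y : G) • b ∈ line K a b := by
    intro x hx
    -- split `x` into its `p`-part and the rest
    suffices hxc : (y : G)⁻¹ * x * (y : G) ∈ pairGrp K a b by
      have h : ((y : G)⁻¹ * x * (y : G)) • b = b := hxc.2
      rwa [mul_smul, mul_smul, inv_smul_eq_iff] at h
    obtain ⟨hxK, hxb⟩ := hx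
    obtain ⟨x0, hx0⟩ : ∃ x0 : K a, x0 = ⟨x, hxK⟩ := ⟨_, rfl⟩
    obtain ⟨m, hm, hpm⟩ : ∃ m, orderOf x0 = p ^ (orderOf x0).factorization p * m ∧ ¬ p ∣ m :=
      ⟨_, (Nat.ordProj_mul_ordCompl_eq_self _ p).symm, Nat.not_dvd_ordCompl hp (orderOf_pos x0).ne'⟩
    obtain ⟨e, he⟩ : ∃ e, e = p ^ (orderOf x0).factorization p := ⟨_, rfl⟩
    rw [← he] at hm
    have hcop : Nat.Coprime e m := he ▸ ((hp.coprime_iff_not_dvd).2 hpm).pow_left _
    -- the two parts
    have h1 : (y : G)⁻¹ * x ^ m * (y : G) ∈ pairGrp K a b := by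
      have hxm : x ^ m ∈ R := by
        rw [hR]
        refine (mem_pPart (hS.nilp a)).2 ⟨pow_mem hxK m, (orderOf x0).factorization p, ?_⟩
        rw [← pow_mul, mul_comm, ← he, ← hm]
        have := congrArg Subtype.val (pow_orderOf_eq_one x0)
        rw [SubgroupClass.coe_pow] at this
        rwa [hx0] at this ⊢
      have hxY : (⟨x ^ m, hxm⟩ : R) ∈ Y := by
        rw [hY]; exact mem_subgroupOf.2 (pow_mem (show x ∈ pairGrp K a b from ⟨hxK, hxb⟩) m)
      have := (Subgroup.mem_normalizer_iff''.1 hy ⟨x ^ m, hxm⟩).1 hxY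
      rw [hY] at this
      exact this
    have h2 : (y : G)⁻¹ * x ^ e * (y : G) = x ^ e := by
      have hyo : ∃ k, orderOf (⟨y, hyK⟩ : K a) = p ^ k := by
        obtain ⟨-, k, hk⟩ := (mem_pPart (hS.nilp a)).1 (hR.le y.2)
        obtain ⟨i, -, hi⟩ := (Nat.dvd_prime_pow hp).1 (orderOf_dvd_of_pow_eq_one
          (show (⟨y, hyK⟩ : K a) ^ p ^ k = 1 from Subtype.ext hk))
        exact ⟨i, hi⟩
      obtain ⟨i, hi⟩ := hyo
      have hc : Commute (⟨y, hyK⟩ : K a) (x0 ^ e) := by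
        refine OddLocal.commute_of_coprime_orderOf (hS.nilp a) ?_
        rw [hi]
        refine Nat.Coprime.pow_left _ ((hp.coprime_iff_not_dvd).2 fun hd => hpm (hd.trans ?_))
        refine orderOf_dvd_of_pow_eq_one ?_
        rw [← pow_mul, ← hm, pow_orderOf_eq_one]
      have hc' : (y : G) * x ^ e = x ^ e * y := by
        have := congrArg Subtype.val hc.eq
        simpa [hx0] using this
      rw [mul_assoc, ← hc', inv_mul_cancel_left]
    have hgcd := Int.gcd_eq_gcd_ab (e : ℤ) (m : ℤ)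
    rw [Int.gcd_natCast_natCast, hcop.gcd_eq_one] at hgcd
    have hxeq : x = (x ^ e) ^ Int.gcdA e m * (x ^ m) ^ Int.gcdB e m := by
      rw [← zpow_natCast, ← zpow_natCast, ← zpow_mul, ← zpow_mul, ← zpow_add, ← hgcd, Nat.cast_one,
        zpow_one]
    rw [hxeq]
    have e1 : (y : G)⁻¹ * ((x ^ e) ^ Int.gcdA e m * (x ^ m) ^ Int.gcdB e m) * y =
        ((y : G)⁻¹ * x ^ e * y) ^ Int.gcdA e m * ((y : G)⁻¹ * x ^ m * y) ^ Int.gcdB e m := by
      have := fun (w : G) (i : ℤ) => map_zpow (MulAut.conj (y : G)⁻¹) w i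
      simp only [MulAut.conj_apply, inv_inv] at this
      rw [← this, ← this]
      group
    rw [e1, h2]
    exact mul_mem (zpow_mem (pow_mem (show x ∈ pairGrp K a b from ⟨hxK, hxb⟩) e) _) (zpow_mem h1 _)
  have hyN : (y : G) ∈ stabilizer G (line K a b) :=
    hS.mem_stab_line hb.symm (by rw [hS.fix hyK]; exact left_mem_line hS.le a b) hyb
  obtain ⟨k, hk⟩ := hRp y
  have hord : orderOf (toLine K a b ⟨y, hyN⟩) = 1 := by
    refine Nat.eq_one_of_dvd_coprimes (a := p ^ k) (b := 2 ^ n)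
      (Nat.Coprime.pow _ _ ((Nat.coprime_primes hp Nat.prime_two).2 h)) ?_ ?_
    · refine orderOf_dvd_of_pow_eq_one ?_
      rw [← map_pow, ← map_one (toLine K a b)]
      exact congrArg _ (Subtype.ext (by
        rw [SubgroupClass.coe_pow]
        exact congrArg Subtype.val hk))
    · rw [← hn]
      exact (lineQ K a b).orderOf_dvd_natCard ⟨⟨y, hyN⟩, hyK, rfl⟩
  rw [hY, mem_subgroupOf]
  exact ⟨hyK, toLine_eq_one.1 (orderOf_eq_one_iff.1 hord) b (right_mem_line K a b)⟩

theorem card_zc (c d : Ω) : Nat.card ↥(zc K c) = Nat.card ↥(zc K d) := by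
  rcases eq_or_ne c d with rfl | h
  · rfl
  obtain ⟨g, hg, -⟩ := hS.two c d d c h h.symm
  refine Nat.card_congr (Equiv.ofBijective
    (fun z : zc K c => (⟨g * z * g⁻¹, hg ▸ hS.zc_conj g z.2⟩ : zc K d)) ⟨?_, ?_⟩)
  · exact fun x y e => Subtype.ext (mul_left_cancel (mul_right_cancel (congrArg Subtype.val e)))
  · rintro ⟨z, hz⟩
    have := hS.zc_conj g⁻¹ hz
    rw [inv_inv, show g⁻¹ • d = c by rw [inv_smul_eq_iff, hg]] at this
    exact ⟨⟨_, this⟩, Subtype.ext (by group)⟩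

/-- An element fixing `a`, inducing an involution on a line through `a`, acts there as a central
involution. -/
theorem exists_zc_eq {a b : Ω} (hab : a ≠ b) {g : G} (hg : g ∈ stabilizer G (line K a b)) (hga : g • a = a)
    (hg2 : ∀ c ∈ line K a b, g • g • c = c) : ∃ z ∈ zc K a, ∀ c ∈ line K a b, z • c = g • c := by
  haveI := hS.finite_points
  obtain ⟨c0, hc0, t, ht, -, hta, -, -⟩ := hS.exists_swap hab
  have hC := hS.line_ctx hab (hS.zc_mem_stab_line hab hc0 ht) ht.2.2 hta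
  have ha := left_mem_line hS.le a b
  obtain ⟨z0, hz0, hz01⟩ := hS.exists_zc a
  have hz0N := hS.zc_mem_stab_line hab ha hz0
  by_cases hx1 : toLine K a b ⟨g, hg⟩ = 1
  · exact ⟨1, one_mem _, fun c hc => by rw [one_smul, toLine_eq_one.1 hx1 c hc]⟩
  have hx : toLine K a b ⟨g, hg⟩ ∈ RankOneClass.zGrp (LineGrp K a b) (⟨a, ha⟩ : lineAct K a b) :=
    hC.mem_zGrp.2 ⟨Subtype.ext hga, by
      rw [← map_mul]
      exact toLine_eq_one.2 fun c hc => (mul_smul g g c).trans (hg2 c hc)⟩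
  obtain ⟨k, hk, e⟩ := hC.exists_kGrp_conj (z := toLine K a b ⟨z0, hz0N⟩)
    (hC.mem_zGrp.2 ⟨Subtype.ext (hS.zc_fix hz0), by
      rw [← map_mul, ← map_one (toLine K a b)]; exact congrArg _ (Subtype.ext hz0.2.2)⟩)
    (fun e => hab (hS.zc_fix_unique hz0 hz01 (toLine_eq_one.1 e b (right_mem_line K a b))).symm) hx hx1
  obtain ⟨d, rfl⟩ := toLine_surjective K a b k
  have hda : (d : G) • a = a := congrArg Subtype.val (mem_stabilizer_iff.1
    (RankOne.mem_twoPt.1 (RankOneClass.Ctx.kGrp_le _ _ _ hk)).1)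
  have h1 := hS.zc_conj (d : G) hz0
  rw [hda] at h1
  refine ⟨_, h1, fun c hc => ?_⟩
  rw [← map_inv, ← map_mul, ← map_mul] at e
  exact congrArg Subtype.val (congrArg (fun x : LineGrp K a b => x • (⟨c, hc⟩ : lineAct K a b)) e)

/-- An element fixing two points centralises the group of their line and permutes the central
involutions regularly. -/
theorem exists_torus {a b : Ω} (hab : a ≠ b) :
    ∃ f : ℕ, 2 ≤ f ∧ Nat.card ↥(zc K a) = 2 ^ f ∧ ∃ j : G, j • a = a ∧ j • b = b ∧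
      (∀ x ∈ pairGrp K a b, x * j = j * x) ∧
      (∀ z ∈ zc K a, z ≠ 1 → ∀ i : ℕ, (j ^ i * z * (j ^ i)⁻¹ = z ↔ (2 ^ f - 1) ∣ i)) ∧
      ∀ z ∈ zc K a, z ≠ 1 → ∀ z' ∈ zc K a, z' ≠ 1 → ∃ i : ℕ, j ^ i * z * (j ^ i)⁻¹ = z' := by
  haveI := hS.finite_points
  obtain ⟨c, hc, t, ht, ht1, hta, htb, htX⟩ := hS.exists_swap hab
  have htN := hS.zc_mem_stab_line hab hc ht
  have hC := hS.line_ctx hab htN ht.2.2 hta
  obtain ⟨f, hf2, hf⟩ := hC.exists_qq_pow
  have ha := left_mem_line hS.le a b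
  have hb := right_mem_line K a b
  obtain ⟨z0, hz0, hz01⟩ := hS.exists_zc a
  have hN : ∀ {z : G}, z ∈ zc K a → z ∈ stabilizer G (line K a b) := fun hz => hS.zc_mem_stab_line hab ha hz
  have hinj : ∀ {z w : G} (hz : z ∈ zc K a) (hw : w ∈ zc K a),
      toLine K a b ⟨z, hN hz⟩ = toLine K a b ⟨w, hN hw⟩ → z = w := by
    intro z w hz hw e
    have h2 : toLine K a b (⟨z, hN hz⟩⁻¹ * ⟨w, hN hw⟩) = 1 := by rw [map_mul, map_inv, e, inv_mul_cancel]
    have h3 := toLine_eq_one.1 h2 b hb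
    by_contra h1
    exact hab (hS.zc_fix_unique (mul_mem (inv_mem hz) hw) (fun e => h1 (inv_mul_eq_one.1 e)) h3).symm
  have hZ : ∀ {z : G} (hz : z ∈ zc K a),
      toLine K a b ⟨z, hN hz⟩ ∈ RankOneClass.zGrp (LineGrp K a b) (⟨a, ha⟩ : lineAct K a b) :=
    fun {z} hz => hC.mem_zGrp.2 ⟨Subtype.ext (hS.zc_fix hz), by
      rw [← map_mul, ← map_one (toLine K a b)]; exact congrArg _ (Subtype.ext hz.2.2)⟩
  have hsurj : ∀ x ∈ RankOneClass.zGrp (LineGrp K a b) (⟨a, ha⟩ : lineAct K a b),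
      ∃ z, ∃ hz : z ∈ zc K a, toLine K a b ⟨z, hN hz⟩ = x := by
    intro x hx
    by_cases hx1 : x = 1
    · exact ⟨1, one_mem _, by rw [hx1, ← map_one (toLine K a b)]; rfl⟩
    obtain ⟨k, hk, e⟩ := hC.exists_kGrp_conj (hZ hz0)
      (fun e => hz01 (hinj hz0 (one_mem _) (by rw [e, ← map_one (toLine K a b)]; rfl))) hx hx1
    obtain ⟨g, rfl⟩ := toLine_surjective K a b k
    have hga : (g : G) • a = a := congrArg Subtype.val (mem_stabilizer_iff.1
      (RankOne.mem_twoPt.1 (RankOneClass.Ctx.kGrp_le _ _ _ hk)).1)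
    have h1 := hS.zc_conj (g : G) hz0
    rw [hga] at h1
    exact ⟨_, h1, by rw [← e, ← map_inv, ← map_mul, ← map_mul]; rfl⟩
  have hq : Nat.card ↥(zc K a) = 2 ^ f := by
    rw [← hf]
    refine Nat.card_congr (Equiv.ofBijective (fun z : zc K a => (⟨_, hZ z.2⟩ :
      RankOneClass.zGrp (LineGrp K a b) (⟨a, ha⟩ : lineAct K a b))) ⟨?_, ?_⟩)
    · exact fun z w e => Subtype.ext (hinj z.2 w.2 (congrArg Subtype.val e))
    · rintro ⟨x, hx⟩
      obtain ⟨z, hz, e⟩ := hsurj x hx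
      exact ⟨⟨z, hz⟩, Subtype.ext e⟩
  -- lift of the inverted elements
  have hlift : ∀ k ∈ RankOneClass.kGrp (LineGrp K a b) (⟨a, ha⟩ : lineAct K a b) (toLine K a b ⟨t, htN⟩),
      ∃ d : G, ∃ hd : d ∈ stabilizer G (line K a b), toLine K a b ⟨d, hd⟩ = k ∧
        ∀ x ∈ pairGrp K a b, x * d = d * x := by
    intro k hk
    obtain ⟨g, hg⟩ := toLine_surjective K a b (toLine K a b ⟨t, htN⟩ * k)
    have hinv := hC.t_conj_kGrp hk
    have hg2 : toLine K a b g * toLine K a b g = 1 := by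
      rw [hg]
      calc toLine K a b ⟨t, htN⟩ * k * (toLine K a b ⟨t, htN⟩ * k)
          = toLine K a b ⟨t, htN⟩ * k * toLine K a b ⟨t, htN⟩ * k := by group
        _ = 1 := by rw [hinv, inv_mul_cancel]
    have hgm : ∀ d ∈ line K a b, (g : G) • d ∈ line K a b := fun d hd => (lineAct K a b).smul_mem' g hd
    obtain ⟨d0, hd0, hfix⟩ : ∃ d0 ∈ line K a b, (g : G) • d0 = d0 := by
      haveI : Fact (Nat.Prime 2) := ⟨Nat.prime_two⟩
      by_cases h1 : toLine K a b g = 1
      · exact ⟨a, ha, toLine_eq_one.1 h1 a ha⟩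
      have hP : IsPGroup 2 (zpowers (toLine K a b g)) := IsPGroup.of_card (n := 1) (by
        rw [Nat.card_zpowers, pow_one]; exact orderOf_eq_prime (by rw [pow_two, hg2]) h1)
      obtain ⟨d, hd⟩ := hP.nonempty_fixed_point_of_prime_not_dvd_card (α := lineAct K a b) (by
        show ¬ 2 ∣ Nat.card ↥(line K a b)
        rw [Nat.card_coe_set_eq]
        exact fun h => Nat.not_even_iff_odd.2 (hS.odd_line hab) (even_iff_two_dvd.2 h))
      exact ⟨d, d.2, congrArg Subtype.val (hd ⟨_, mem_zpowers _⟩)⟩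
    have key : ∃ t' ∈ zc K d0, ∃ ht' : t' ∈ stabilizer G (line K a b),
        toLine K a b ⟨t', ht'⟩ = toLine K a b g := by
      obtain ⟨b', hb', hb'ne⟩ : ∃ b' ∈ line K a b, b' ≠ d0 := by
        by_cases h : d0 = a
        · exact ⟨b, hb, h ▸ hab.symm⟩
        · exact ⟨a, ha, Ne.symm h⟩
      obtain ⟨h, hha, hhb⟩ := hS.two a b d0 b' hab hb'ne.symm
      have hhN := hS.mem_stab_line hab (hha ▸ hd0) (hhb ▸ hb')
      obtain ⟨x, hx⟩ : ∃ x, x = (toLine K a b ⟨h, hhN⟩)⁻¹ * toLine K a b g * toLine K a b ⟨h, hhN⟩ := ⟨_, rfl⟩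
      obtain ⟨z, hz, e⟩ := hsurj x (hC.mem_zGrp.2 ⟨by
        rw [hx, ← map_inv, ← map_mul, ← map_mul]
        refine Subtype.ext ?_
        show (h⁻¹ * (g : G) * h) • a = a
        rw [mul_smul, mul_smul, hha, hfix, inv_smul_eq_iff, hha], by
        rw [hx]
        calc _ = (toLine K a b ⟨h, hhN⟩)⁻¹ * (toLine K a b g * toLine K a b g) * toLine K a b ⟨h, hhN⟩ := by
              group
          _ = 1 := by rw [hg2, mul_one, inv_mul_cancel]⟩)
      have h1 := hS.zc_conj h hz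
      rw [hha] at h1
      refine ⟨_, h1, hS.zc_mem_stab_line hab hd0 h1, ?_⟩
      calc toLine K a b ⟨h * z * h⁻¹, _⟩ = toLine K a b ⟨h, hhN⟩ * toLine K a b ⟨z, hN hz⟩ *
            (toLine K a b ⟨h, hhN⟩)⁻¹ := by rw [← map_inv, ← map_mul, ← map_mul]; rfl
        _ = toLine K a b g := by rw [e, hx]; group
    obtain ⟨t', ht', ht'N, e⟩ := key
    refine ⟨t * t', mul_mem htN ht'N, ?_, fun x hx => ?_⟩
    · rw [show (⟨t * t', mul_mem htN ht'N⟩ : stabilizer G (line K a b)) = ⟨t, htN⟩ * ⟨t', ht'N⟩ from rfl,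
        map_mul, e, hg, ← mul_assoc, hC.setup.mul_self, one_mul]
    · rw [← mul_assoc, htX x hx, mul_assoc, ht'.2.1 x (hS.le_K_of_mem_line hab hd0 hx), mul_assoc]
  haveI := hC.isCyclic_kGrp
  obtain ⟨⟨k, hk⟩, hgen⟩ := IsCyclic.exists_generator
    (α := RankOneClass.kGrp (LineGrp K a b) (⟨a, ha⟩ : lineAct K a b) (toLine K a b ⟨t, htN⟩))
  obtain ⟨j, hj, hjk, hjX⟩ := hlift k hk
  have hkD := RankOne.mem_twoPt.1 (RankOneClass.Ctx.kGrp_le _ _ _ hk)
  have hja : j • a = a := by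
    have h1 := congrArg Subtype.val hkD.1
    rw [← hjk] at h1
    exact h1
  have hjb : j • b = b := by
    have h1 := congrArg Subtype.val hkD.2
    rw [← hjk] at h1
    show j • b = b
    rw [← hta]
    exact h1
  have hord : orderOf k = 2 ^ f - 1 := by
    have h1 := hC.card_kGrp
    have h2 := orderOf_eq_card_of_forall_mem_zpowers hgen
    rw [Subgroup.orderOf_mk] at h2
    omega
  have hji : ∀ i : ℕ, ∀ z : G, z ∈ zc K a → j ^ i * z * (j ^ i)⁻¹ ∈ zc K a := fun i z hz => by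
    have := hS.zc_conj (j ^ i) hz
    rwa [show j ^ i • a = a from MulAction.mem_stabilizer_iff.1 (pow_mem (show j ∈ stabilizer G a from hja) i)] at this
  have himg : ∀ (i : ℕ) (z : G) (hz : z ∈ zc K a),
      toLine K a b ⟨_, hN (hji i z hz)⟩ = k ^ i * toLine K a b ⟨z, hN hz⟩ * (k ^ i)⁻¹ := fun i z hz => by
    rw [← hjk, ← map_pow, ← map_inv, ← map_mul, ← map_mul]
    rfl
  refine ⟨f, hf2, hq, j, hja, hjb, hjX, ?_, ?_⟩
  · intro z hz hz1 i
    constructor
    · intro e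
      have h1 := himg i z hz
      simp only [e] at h1
      rw [← hord]
      refine orderOf_dvd_of_pow_eq_one (hC.kGrp_conj_inj (pow_mem hk i) (one_mem _) (hZ hz)
        (fun e' => hz1 (hinj hz (one_mem _) (by rw [e', ← map_one (toLine K a b)]; rfl))) ?_)
      rw [← h1]
      group
    · intro hi
      refine hinj (hji i z hz) hz ?_
      rw [himg i z hz, orderOf_dvd_iff_pow_eq_one.1 (hord ▸ hi)]
      group
  · intro z hz hz1 z' hz' hz'1
    obtain ⟨k', hk', e⟩ := hC.exists_kGrp_conj (hZ hz)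
      (fun e' => hz1 (hinj hz (one_mem _) (by rw [e', ← map_one (toLine K a b)]; rfl))) (hZ hz')
      (fun e' => hz'1 (hinj hz' (one_mem _) (by rw [e', ← map_one (toLine K a b)]; rfl)))
    obtain ⟨i, hi⟩ := (mem_powers_iff_mem_zpowers (x := (⟨k, hk⟩ : RankOneClass.kGrp _ _ _))).2 (hgen ⟨k', hk'⟩)
    refine ⟨i, hinj (hji i z hz) hz' ?_⟩
    rw [himg i z hz, show k ^ i = k' from congrArg Subtype.val hi, e]

end SBN

end Cfsg.Agent.SplitBN
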