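import Cfsg.Agent.SplitBN.Basic
import Cfsg.Agent.FTCons.Basic

/-!
The lines of a set-up and the central involutions swapping two points.
-/

set_option autoImplicit false
set_option linter.unusedSectionVars false

open Subgroup MulAction

namespace Cfsg.Agent.SplitBN

universe u v

variable {G : Type u} {Ω : Type v} [Group G] [MulAction G Ω]

/-- The elements of `K a` fixing `b`. -/
def pairGrp (K : Ω → Subgroup G) (a b : Ω) : Subgroup G := K a ⊓ stabilizer G b

/-- The line through `a` and `b`. -/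
def line (K : Ω → Subgroup G) (a b : Ω) : Set Ω := {c | ∀ x ∈ pairGrp K a b, x • c = c}

/-- The central involutions of `K c`. -/
def zc (K : Ω → Subgroup G) (c : Ω) : Subgroup G where
  carrier := {z | z ∈ K c ∧ (∀ u ∈ K c, u * z = z * u) ∧ z * z = 1}
  one_mem' := ⟨one_mem _, fun u _ => by rw [mul_one, one_mul], one_mul 1⟩
  mul_mem' := by
    rintro x y ⟨hx, hxc, hx2⟩ ⟨hy, hyc, hy2⟩
    refine ⟨mul_mem hx hy, fun u hu => by rw [← mul_assoc, hxc u hu, mul_assoc, hyc u hu, mul_assoc], ?_⟩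
    rw [mul_assoc, ← mul_assoc y, ← hyc x hx, mul_assoc, hy2, mul_one, hx2]
  inv_mem' := by
    rintro x ⟨hx, hxc, hx2⟩
    rw [inv_eq_of_mul_eq_one_right hx2]
    exact ⟨hx, hxc, hx2⟩

theorem mem_zc {K : Ω → Subgroup G} {c : Ω} {z : G} :
    z ∈ zc K c ↔ z ∈ K c ∧ (∀ u ∈ K c, u * z = z * u) ∧ z * z = 1 := Iff.rfl

theorem left_mem_line {K : Ω → Subgroup G} (hle : ∀ c, K c ≤ stabilizer G c) (a b : Ω) : a ∈ line K a b :=
  fun _ hx => hle a hx.1

theorem right_mem_line (K : Ω → Subgroup G) (a b : Ω) : b ∈ line K a b := fun _ hx => hx.2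

namespace SBN

variable {K : Ω → Subgroup G} (hS : SBN G Ω K)

include hS

theorem pairGrp_conj_iff (g : G) (a b : Ω) {x : G} :
    g * x * g⁻¹ ∈ pairGrp K (g • a) (g • b) ↔ x ∈ pairGrp K a b := by
  simp only [pairGrp, mem_inf, hS.conj_iff, mem_stabilizer_iff, mul_smul, inv_smul_smul,
    smul_left_cancel_iff]

variable [Finite G]

theorem pairGrp_comm {a b : Ω} (hab : a ≠ b) : pairGrp K a b = pairGrp K b a := hS.inf_stab_comm hab

theorem card_pairGrp {a b c d : Ω} (hab : a ≠ b) (hcd : c ≠ d) :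
    Nat.card ↥(pairGrp K a b) = Nat.card ↥(pairGrp K c d) := by
  obtain ⟨g, rfl, rfl⟩ := hS.two a b c d hab hcd
  exact Nat.card_congr
    { toFun := fun x => ⟨g * x * g⁻¹, (hS.pairGrp_conj_iff g a b).2 x.2⟩
      invFun := fun y => ⟨g⁻¹ * y * g, (hS.pairGrp_conj_iff g a b).1 (by simpa [mul_assoc] using y.2)⟩
      left_inv := fun x => Subtype.ext (by simp [mul_assoc])
      right_inv := fun x => Subtype.ext (by simp [mul_assoc]) }

/-- Any two points of a line determine its group. -/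
theorem pairGrp_eq {a b c d : Ω} (hab : a ≠ b) (hc : c ∈ line K a b) (hd : d ∈ line K a b)
    (hcd : c ≠ d) : pairGrp K c d = pairGrp K a b := by
  have hle : pairGrp K a b ≤ K c := by
    rcases eq_or_ne c a with rfl | hca
    · exact inf_le_left
    · exact fun x hx => hS.inf_stab_le hca.symm ⟨hx.1, hc x hx⟩
  exact (Subgroup.eq_of_le_of_card_ge (H := pairGrp K a b) (K := pairGrp K c d)
    (fun x hx => show x ∈ K c ⊓ stabilizer G d from ⟨hle hx, hd x hx⟩)
    (hS.card_pairGrp hcd hab).le).symm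

theorem le_K_of_mem_line {a b c : Ω} (hab : a ≠ b) (hc : c ∈ line K a b) :
    pairGrp K a b ≤ K c := by
  rcases eq_or_ne c a with rfl | hca
  · exact inf_le_left
  · exact fun x hx => hS.inf_stab_le hca.symm ⟨hx.1, hc x hx⟩

theorem line_eq {a b c d : Ω} (hab : a ≠ b) (hc : c ∈ line K a b) (hd : d ∈ line K a b)
    (hcd : c ≠ d) : line K c d = line K a b := by
  rw [line, hS.pairGrp_eq hab hc hd hcd, line]

theorem zc_fix {c : Ω} {z : G} (hz : z ∈ zc K c) : z • c = c := hS.fix hz.1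

theorem zc_fix_unique {c d : Ω} {z : G} (hz : z ∈ zc K c) (hz1 : z ≠ 1) (hd : z • d = d) : d = c := by
  by_contra h
  exact hz1 (hS.eq_one_of_central h hz.1 hz.2.1 hd)

theorem zc_conj (g : G) {c : Ω} {z : G} (hz : z ∈ zc K c) : g * z * g⁻¹ ∈ zc K (g • c) := by
  obtain ⟨hzK, hzc, hz2⟩ := hz
  refine ⟨hS.conj g c z hzK, fun u hu => ?_, ?_⟩
  · have hu' : g⁻¹ * u * g ∈ K c := by
      have := hS.conj g⁻¹ _ u hu
      rwa [inv_smul_smul, inv_inv] at this
    calc u * (g * z * g⁻¹) = g * ((g⁻¹ * u * g) * z) * g⁻¹ := by group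
      _ = g * z * g⁻¹ * u := by rw [hzc _ hu']; group
  · calc g * z * g⁻¹ * (g * z * g⁻¹) = g * (z * z) * g⁻¹ := by group
      _ = 1 := by rw [hz2, mul_one, mul_inv_cancel]

theorem odd_ncard_fixed {u : G} (hu : u * u = 1) {S : Set Ω} (hS' : ∀ c ∈ S, u • c ∈ S)
    (h : ∀ c ∈ S, u • c = c → c ∈ ({c | c ∈ S ∧ u • c = c} : Set Ω)) :
    S.ncard % 2 = {c | c ∈ S ∧ u • c = c}.ncard % 2 := by
  haveI := hS.finite_points
  classical
  by_cases hu1 : u = 1
  · subst hu1
    congr 2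
    ext c
    simp
  haveI : Fact (Nat.Prime 2) := ⟨Nat.prime_two⟩
  let H : SubMulAction (zpowers u) Ω :=
    { carrier := S
      smul_mem' := by
        rintro ⟨g, hg⟩ c hc
        obtain ⟨i, rfl⟩ := mem_zpowers_iff.1 hg
        rcases Int.even_or_odd i with ⟨j, rfl⟩ | ⟨j, rfl⟩
        · show u ^ (j + j) • c ∈ S
          rw [← two_mul, zpow_mul, zpow_ofNat, pow_two, hu, one_zpow, one_smul]
          exact hc
        · show u ^ (2 * j + 1) • c ∈ S
          rw [zpow_add_one, zpow_mul, zpow_ofNat, pow_two, hu, one_zpow, one_mul]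
          exact hS' c hc }
  have hP : IsPGroup 2 (zpowers u) := IsPGroup.of_card (n := 1) (by
    rw [Nat.card_zpowers, pow_one]; exact orderOf_eq_prime (by rw [pow_two, hu]) hu1)
  have := hP.card_modEq_card_fixedPoints H
  rw [← Nat.card_coe_set_eq, ← Nat.card_coe_set_eq]
  refine this.trans (congrArg (· % 2) (Nat.card_congr ?_))
  exact
    { toFun := fun c => ⟨c.1.1, c.1.2, congrArg Subtype.val (c.2 ⟨u, mem_zpowers u⟩)⟩
      invFun := fun c => ⟨⟨c.1, c.2.1⟩, by
        rintro ⟨g, hg⟩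
        refine Subtype.ext ?_
        show g • c.1 = c.1
        exact MulAction.mem_stabilizer_iff.1
          ((zpowers_le.2 (show u ∈ stabilizer G c.1 from c.2.2)) hg)⟩
      left_inv := fun c => rfl
      right_inv := fun c => rfl }

theorem exists_fixed {u : G} (hu : u * u = 1) {S : Set Ω} (hS' : ∀ c ∈ S, u • c ∈ S)
    (hodd : Odd S.ncard) : ∃ c ∈ S, u • c = c := by
  have := hS.odd_ncard_fixed hu hS' (fun c hc h => ⟨hc, h⟩)
  rw [Nat.odd_iff.1 hodd] at this
  obtain ⟨c, hc⟩ := Set.nonempty_of_ncard_ne_zero (s := {c | c ∈ S ∧ u • c = c}) (by omega)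
  exact ⟨c, hc.1, hc.2⟩

theorem even_card_stab (c : Ω) : Even (Nat.card ↥(stabilizer G c)) := by
  haveI := hS.finite_points
  obtain ⟨b, hb⟩ := hS.exists_ne c
  obtain ⟨g, hgc, hgb⟩ := hS.two c b b c hb.symm hb
  have he : Even (orderOf g) := by
    rw [← Nat.not_odd_iff_even]
    rintro ⟨k, hk⟩
    have h2 : g ^ 2 ∈ stabilizer G c := by
      show g ^ 2 • c = c
      rw [pow_two, mul_smul, hgc, hgb]
    have h3 : g ∈ stabilizer G c := by
      have := pow_mem h2 (k + 1)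
      rwa [← pow_mul, show 2 * (k + 1) = orderOf g + 1 by omega, pow_succ, pow_orderOf_eq_one,
        one_mul] at this
    exact hb (hgc.symm.trans h3)
  obtain ⟨i, hi⟩ : ∃ i, i = g ^ (orderOf g / 2) := ⟨_, rfl⟩
  have hio : orderOf i = 2 := hi ▸ orderOf_pow_orderOf_div (orderOf_pos g).ne' he.two_dvd
  obtain ⟨d, -, hd⟩ := hS.exists_fixed (u := i) (S := Set.univ)
    (by have := pow_orderOf_eq_one i; rwa [hio, pow_two] at this) (fun _ _ => Set.mem_univ _)
    (by rw [Set.ncard_univ]; exact hS.odd_points)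
  obtain ⟨h, hh, -⟩ : ∃ h : G, h • d = c ∧ True := by
    obtain ⟨e, he⟩ := hS.exists_ne d
    obtain ⟨h, hh, -⟩ := hS.two d e c b he.symm hb.symm
    exact ⟨h, hh, trivial⟩
  refine even_iff_two_dvd.2 ?_
  rw [← hio, ← MulEquiv.orderOf_eq (MulAut.conj h) i, MulAut.conj_apply]
  refine Subgroup.orderOf_dvd_natCard (s := stabilizer G c) ?_
  show (h * i * h⁻¹) • c = c
  rw [← hh, mul_smul, mul_smul, inv_smul_smul, hd]

theorem even_card_K (c : Ω) : Even (Nat.card ↥(K c)) := by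
  have h := (K c).relIndex_mul_relIndex
  have h1 := ((K c).subgroupOf (stabilizer G c)).card_mul_index
  rw [Nat.card_congr (subgroupOfEquivOfLe (hS.le c)).toEquiv] at h1
  have h2 := hS.even_card_stab c
  rw [← h1, Nat.even_mul] at h2
  exact h2.resolve_right (Nat.not_even_iff_odd.2 (hS.odd_index c))

theorem exists_zc (c : Ω) : ∃ z ∈ zc K c, z ≠ 1 := by
  haveI : Fact (Nat.Prime 2) := ⟨Nat.prime_two⟩
  haveI := hS.nilp c
  obtain ⟨x, hx⟩ := exists_prime_orderOf_dvd_card' 2 (hS.even_card_K c).two_dvd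
  obtain ⟨P, hP⟩ := (IsPGroup.of_card (p := 2) (n := 1) (G := zpowers x) (by
    rw [Nat.card_zpowers, hx, pow_one])).exists_le_sylow
  have hne : (P : Subgroup (K c)) ≠ ⊥ := fun h => by
    have := hP (mem_zpowers x)
    rw [h, mem_bot] at this
    rw [this, orderOf_one] at hx
    omega
  have hne2 : (P : Subgroup (K c)) ⊓ center (K c) ≠ ⊥ := Core.inf_center_ne_bot hne
  obtain ⟨z, hz⟩ := exists_prime_orderOf_dvd_card' 2 (G := ↥((P : Subgroup (K c)) ⊓ center (K c))) (by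
    obtain ⟨k, hk⟩ := IsPGroup.iff_card.1 (P.isPGroup'.to_le (inf_le_left :
      (P : Subgroup (K c)) ⊓ center (K c) ≤ P))
    refine hk ▸ dvd_pow_self 2 fun h0 => hne2 (Subgroup.card_eq_one.1 ?_)
    rw [hk, h0, pow_zero])
  refine ⟨((z : K c) : G), ⟨(z : K c).2, fun u hu => ?_, ?_⟩, fun e => ?_⟩
  · exact congrArg Subtype.val (mem_center_iff.1 z.2.2 ⟨u, hu⟩)
  · have h := pow_orderOf_eq_one z
    rw [hz, pow_two] at h
    exact congrArg Subtype.val (congrArg Subtype.val h)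
  · have : z = 1 := Subtype.ext (Subtype.ext e)
    rw [this, orderOf_one] at hz
    omega

theorem odd_line {a b : Ω} (hab : a ≠ b) : Odd (line K a b).ncard := by
  obtain ⟨z, hz, hz1⟩ := hS.exists_zc a
  haveI := hS.finite_points
  have hstab : ∀ c ∈ line K a b, z • c ∈ line K a b := fun c hc x hx => by
    rw [← mul_smul, hz.2.1 x hx.1, mul_smul, hc x hx]
  have h := hS.odd_ncard_fixed hz.2.2 hstab (fun c hc h => ⟨hc, h⟩)
  rw [Nat.odd_iff, h]
  rw [show {c | c ∈ line K a b ∧ z • c = c} = {a} from Set.ext fun c =>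
    ⟨fun hc => hS.zc_fix_unique hz hz1 hc.2, fun hc => by
      rw [Set.mem_singleton_iff.1 hc]; exact ⟨left_mem_line hS.le a b, hS.zc_fix hz⟩⟩,
    Set.ncard_singleton]

/-- A central involution with centre on the line swaps any two points of the line. -/
theorem exists_swap {a b : Ω} (hab : a ≠ b) : ∃ c ∈ line K a b, ∃ t ∈ zc K c, t ≠ 1 ∧ t • a = b ∧
    t • b = a ∧ ∀ x ∈ pairGrp K a b, x * t = t * x := by
  obtain ⟨z, hz, hz1⟩ := hS.exists_zc a
  have hzb : z • b ≠ b := fun h => hab (hS.zc_fix_unique hz hz1 h).symm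
  obtain ⟨g, hg1, hg2⟩ := hS.two b (z • b) a b hzb.symm hab
  obtain ⟨t, ht⟩ : ∃ t, t = g * z * g⁻¹ := ⟨_, rfl⟩
  have htz := ht ▸ hS.zc_conj g hz
  have hta : t • a = b := by rw [ht, ← hg1, mul_smul, mul_smul, inv_smul_smul, hg2]
  have htb : t • b = a := by
    rw [← hta, ← mul_smul, htz.2.2, one_smul]
  have ht1 : t ≠ 1 := fun e => hab (by rw [← hta, e, one_smul])
  have hti : t⁻¹ = t := inv_eq_of_mul_eq_one_right htz.2.2
  have hline : ∀ c ∈ line K a b, t • c ∈ line K a b := fun c hc x hx => by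
    have h1 := (hS.pairGrp_conj_iff t a b).2 hx
    rw [hta, htb, ← hS.pairGrp_comm hab, hti] at h1
    have h := hc _ h1
    rw [mul_smul, mul_smul] at h
    calc x • t • c = t • t • x • t • c := by rw [← mul_smul t t, htz.2.2, one_smul]
      _ = t • c := by rw [h]
  obtain ⟨c, hc, hfix⟩ := hS.exists_fixed htz.2.2 hline (hS.odd_line hab)
  obtain rfl := hS.zc_fix_unique htz ht1 hfix
  exact ⟨_, hc, t, htz, ht1, hta, htb, fun x hx => htz.2.1 x (hS.le_K_of_mem_line hab hc hx)⟩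

/-- `Z(K a)` has at least two involutions. -/
theorem exists_zc_pair (a : Ω) : ∃ z w : G, z ∈ zc K a ∧ w ∈ zc K a ∧ z ≠ 1 ∧ w ≠ 1 ∧ z ≠ w := by
  haveI := hS.simple
  haveI := hS.finite_points
  haveI := hS.faithful
  obtain ⟨z, hz, hz1⟩ := hS.exists_zc a
  by_contra h
  push Not at h
  haveI : Fact (Nat.Prime 2) := ⟨Nat.prime_two⟩
  have hz2 : orderOf z = 2 := orderOf_eq_prime (by rw [pow_two, hz.2.2]) hz1
  obtain ⟨P, hP⟩ := (IsPGroup.of_card (p := 2) (n := 1) (G := zpowers z) (by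
    rw [Nat.card_zpowers, hz2, pow_one])).exists_le_sylow
  obtain ⟨d, hd⟩ := P.isPGroup'.nonempty_fixed_point_of_prime_not_dvd_card (α := Ω) (by
    intro h2
    exact Nat.not_even_iff_odd.2 hS.odd_points (even_iff_two_dvd.2 h2))
  obtain rfl := hS.zc_fix_unique hz hz1 (hd ⟨z, hP (mem_zpowers z)⟩)
  have hiso := Invol.isolated_of_sylow P hz2 fun g hg => by
    have h1 := hd ⟨_, hg⟩
    have h2 : (g * z * g⁻¹) • g • d = g • d := hS.zc_fix (hS.zc_conj g hz)
    have hne : g * z * g⁻¹ ≠ 1 := by rwa [ne_eq, conj_eq_one_iff]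
    have hgd : d = g • d := hS.zc_fix_unique (hS.zc_conj g hz) hne h1
    have h3 := hS.zc_conj g hz
    rw [← hgd] at h3
    exact (h _ _ hz h3 hz1 hne).symm
  have hcen : ∀ g : G, z * g = g * z := fun g => by
    have h1 := Invol.zstar hiso g
    rw [FTCons.oddCore_eq_bot_of_simple (even_iff_two_dvd.2 (hz2 ▸ orderOf_dvd_natCard z)),
      Subgroup.mem_bot, mul_inv_eq_one, mul_inv_eq_iff_eq_mul] at h1
    exact h1
  obtain ⟨b, hb⟩ := hS.exists_ne d
  obtain ⟨g, hg, -⟩ := hS.two d b b d hb.symm hb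
  refine hb (hS.zc_fix_unique hz hz1 ?_)
  rw [← hg, ← mul_smul, hcen, mul_smul, hS.zc_fix hz]

end SBN

end Cfsg.Agent.SplitBN
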